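import Cfsg.Agent.SU62Sub75.Rigid

/-!
The three classes of `3.U_4(3)` in `SU_6(2)` (helper75).
-/

set_option autoImplicit false
set_option linter.unusedSectionVars false

namespace Cfsg.Agent.SU62Sub75

open Matrix Equiv Cfsg.Agent.ChevCore Cfsg.Agent.CosetEnum
open scoped commutatorElement

variable {F : Type} [Field F] [Fintype F] {w : F} {F9 : Type} [Field F9] [Fintype F9] {ι : F9}
variable (h : IsF4 w) (hF : Fintype.card F9 = 3 ^ 2) (hι : ι * ι = -1)

/-- A diagonal matrix with one entry different from one. -/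
def dg1 (w : F) (b : ZMod 3) : Matrix (Fin 6) (Fin 6) F := monoM w 1 (Pi.single 0 b)

include h in
theorem dg1_mul (a b : ZMod 3) : dg1 w a * dg1 w b = dg1 w (a + b) := by
  rw [dg1, dg1, monoM_mul h, one_mul, dg1]
  congr 1
  rw [Pi.single_add]
  rfl

theorem dg1_zero : dg1 w 0 = 1 := by rw [dg1, Pi.single_zero, monoM_one]

include h in
theorem exists_dl (b : ZMod 3) (g : Cfsg.SU 6 F 2) :
    ∃ g' : Cfsg.SU 6 F 2, mat6 g' = dg1 w b * mat6 g * dg1 w (-b) := by
  refine h.exists_elt ?_ ?_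
  · rw [Matrix.det_mul, Matrix.det_mul, mat6_det, mul_one, ← Matrix.det_mul, dg1_mul h,
      add_neg_cancel, dg1_zero, Matrix.det_one]
  · rw [h.adjM_mul, h.adjM_mul]
    calc adjM (dg1 w (-b)) * (adjM (mat6 g) * adjM (dg1 w b)) * (dg1 w b * mat6 g * dg1 w (-b))
        = adjM (dg1 w (-b)) * (adjM (mat6 g) * (adjM (dg1 w b) * dg1 w b) * mat6 g) *
            dg1 w (-b) := by simp only [Matrix.mul_assoc]
      _ = _ := by
        rw [show adjM (dg1 w b) * dg1 w b = 1 from adj_monoM h _ _, Matrix.mul_one, h.adj_mat6,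
          Matrix.mul_one]
        exact adj_monoM h _ _

/-- Conjugation by the diagonal matrix. -/
noncomputable def dl (b : ZMod 3) : Cfsg.SU 6 F 2 →* Cfsg.SU 6 F 2 :=
  MonoidHom.mk' (fun g => (exists_dl h b g).choose) fun g g' => mat6_inj (by
    refine (exists_dl h b (g * g')).choose_spec.trans ?_
    rw [mat6_mul, mat6_mul, (exists_dl h b g).choose_spec, (exists_dl h b g').choose_spec]
    simp only [Matrix.mul_assoc]
    rw [← Matrix.mul_assoc (dg1 w (-b)) (dg1 w b), dg1_mul h, neg_add_cancel, dg1_zero,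
      Matrix.one_mul])

theorem mat6_dl (b : ZMod 3) (g : Cfsg.SU 6 F 2) :
    mat6 (dl h b g) = dg1 w b * mat6 g * dg1 w (-b) :=
  (exists_dl h b g).choose_spec

theorem dl_dl (a b : ZMod 3) (g : Cfsg.SU 6 F 2) : dl h a (dl h b g) = dl h (a + b) g :=
  mat6_inj (by
    rw [mat6_dl, mat6_dl, mat6_dl, ← dg1_mul h a b, show -(a + b) = -b + -a by ring,
      ← dg1_mul h (-b) (-a)]
    simp only [Matrix.mul_assoc])

theorem dl_zero (g : Cfsg.SU 6 F 2) : dl h 0 g = g :=
  mat6_inj (by rw [mat6_dl, neg_zero, dg1_zero, Matrix.one_mul, Matrix.mul_one])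

theorem dl_injective (b : ZMod 3) : Function.Injective (dl h b) := fun x y e => by
  have := congrArg (dl h (-b)) e
  rwa [dl_dl, dl_dl, neg_add_cancel, dl_zero, dl_zero] at this

theorem dl_mem {H : Subgroup (Perm (Fin 6))} (b : ZMod 3) {g : Cfsg.SU 6 F 2}
    (hg : g ∈ monoSub h H) : dl h b g ∈ monoSub h H := by
  obtain ⟨π, hπ, d, e⟩ := hg
  exact ⟨π, hπ, fun j => ((Pi.single 0 b : Fin 6 → ZMod 3) (π j) + d j) +
    (Pi.single 0 (-b) : Fin 6 → ZMod 3) j, by
    rw [mat6_dl, e, dg1, dg1, monoM_mul h, one_mul, monoM_mul h, mul_one]; rfl⟩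

variable (ι)

/-- The three representatives. -/
noncomputable def Kc (a : ZMod 3) : Subgroup (Cfsg.SU 6 F 2) := (imageK w ι).map (dl h a)

variable {ι}

theorem Kc_zero : Kc ι h 0 = imageK w ι := by
  rw [Kc, show dl h 0 = MonoidHom.id _ from MonoidHom.ext (dl_zero h), Subgroup.map_id]

theorem map_Kc (a b : ZMod 3) : (Kc ι h b).map (dl h a) = Kc ι h (a + b) := by
  rw [Kc, Kc, Subgroup.map_map]
  congr 1
  exact MonoidHom.ext fun g => dl_dl h a b g

include hF hι in
theorem triple_Kc (a : ZMod 3) : Triple F9 (Kc ι h a) :=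
  triple_map _ (dl_injective h a)
    (triple_of_bar h hF (scalars_le_imageK h) (imageK_bar h hF hι).some)

include hF hι in
theorem msub_le_Kc (a : ZMod 3) : Msub h ≤ Kc ι h a := fun m hm =>
  ⟨dl h (-a) m, msub_le_imageK h hF hι (dl_mem h (-a) hm), by
    rw [dl_dl, add_neg_cancel, dl_zero]⟩

include h in
theorem tau_sq {τ : Cfsg.SU 6 F 2} (eτ : mat6 τ = monoM w ptau 0) : τ * τ = 1 := mat6_inj (by
  rw [mat6_mul, eτ, monoM_mul h, mat6_one, ← monoM_one (w := w)]
  congr 1
  exact Equiv.swap_mul_self _ _)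

include h hF hι in
theorem tau_normalizes_image {τ : Cfsg.SU 6 F 2} (eτ : mat6 τ = monoM w ptau 0)
    {g : Cfsg.SU 6 F 2} (hg : g ∈ imageK w ι) : τ * g * τ ∈ imageK w ι := by
  have hinv : τ⁻¹ = τ := inv_eq_of_mul_eq_one_right (tau_sq h eτ)
  suffices hle : imageK w ι ≤ (imageK w ι).comap (MulAut.conj τ).toMonoidHom by
    have := hle hg
    rwa [Subgroup.mem_comap, MulEquiv.coe_toMonoidHom, MulAut.conj_apply, hinv] at this
  refine imageK_le h hF hι (fun m hm => ?_) ?_
  · rw [Subgroup.mem_comap, MulEquiv.coe_toMonoidHom, MulAut.conj_apply, hinv]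
    obtain ⟨π, hπ, d, e⟩ := hm
    refine msub_le_imageK h hF hι ⟨ptau * π * ptau, Perm.mem_alternatingGroup.2 ?_, _, by
      rw [mat6_mul, mat6_mul, eτ, e, monoM_mul h, monoM_mul h]⟩
    rw [map_mul, map_mul, tau_odd, Perm.mem_alternatingGroup.1 hπ]
    decide
  · obtain ⟨x, hx, ex⟩ := exists_x0 (w := w) h hF hι
    refine ⟨x, ?_, ex⟩
    rw [Subgroup.mem_comap, MulEquiv.coe_toMonoidHom, MulAut.conj_apply, hinv]
    have hsm := smallB_true
    simp only [smallB, Bool.and_eq_true, kallUpTo_iff, Nat.beq_eq] at hsm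
    obtain ⟨a, ea⟩ := exists_mono h 1 (d := ![1, 2, 0, 0, 0, 0]) (by decide)
    have ha : a ∈ imageK w ι := msub_le_imageK h hF hι ⟨1, one_mem _, _, ea⟩
    rw [← (small_mats h).1] at ea
    have ea' : mat6 a⁻¹ = toM w (smallN 4) := by
      have e1 : toM w (smallN 0) * toM w (smallN 4) = 1 := by
        rw [← h.toM_mulN, (hsm.1 0 (by norm_num)).2, h.toM_one]
      have e2 : mat6 a⁻¹ * mat6 a = 1 := by rw [← mat6_mul, inv_mul_cancel, mat6_one]
      calc mat6 a⁻¹ = mat6 a⁻¹ * (toM w (smallN 0) * toM w (smallN 4)) := by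
            rw [e1, Matrix.mul_one]
        _ = _ := by rw [← ea, ← Matrix.mul_assoc, e2, Matrix.one_mul]
    have key : τ * x * τ = a⁻¹ * x * a := mat6_inj (by
      have e := congrArg (toM w) tau_word
      rw [h.toM_mulN, h.toM_mulN, hsm.2, h.toM_evalW, pow_zero, one_smul, toM_tau h,
        ← Matrix.mul_assoc] at e
      rw [mat6_mul, mat6_mul, mat6_mul, mat6_mul, eτ, ex, ea, ea', e]
      simp only [List.map_cons, List.map_nil, List.prod_cons, List.prod_nil, Matrix.mul_one,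
        Matrix.mul_assoc]
      show toM w (smallN 4) * (toM w (smallN 3) * toM w (smallN 0)) = _
      rw [hsm.2])
    rw [key]
    exact mul_mem (mul_mem (inv_mem ha) hx) ha

include hF hι in
theorem tau_normalizes {τ : Cfsg.SU 6 F 2} (eτ : mat6 τ = monoM w ptau 0) (a : ZMod 3)
    {g : Cfsg.SU 6 F 2} (hg : g ∈ Kc ι h a) : τ * g * τ ∈ Kc ι h a := by
  obtain ⟨g0, hg0, rfl⟩ := hg
  have ht : τ * dl h a τ ∈ Kc ι h a := by
    refine msub_le_Kc h hF hι a (monoSub_mono h (bot_le : (⊥ : Subgroup (Perm (Fin 6))) ≤ _) ?_)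
    obtain ⟨π, hπ, d, e⟩ := dl_mem h a (H := Subgroup.zpowers ptau)
      ⟨ptau, Subgroup.mem_zpowers _, 0, eτ⟩
    have e' := e
    rw [mat6_dl, eτ, dg1, dg1, monoM_mul h, monoM_mul h, one_mul, mul_one] at e'
    refine ⟨ptau * π, Subgroup.mem_bot.2 ?_, _, by rw [mat6_mul, eτ, e, monoM_mul h]⟩
    rw [← (monoM_inj h e').1]
    exact Equiv.swap_mul_self _ _
  have hd : dl h a τ * dl h a τ = 1 := by rw [← map_mul, tau_sq h eτ, map_one]
  have e : τ * dl h a g0 * τ = (τ * dl h a τ) * dl h a (τ * g0 * τ) * (τ * dl h a τ)⁻¹ := by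
    rw [map_mul, map_mul, _root_.mul_inv_rev, inv_eq_of_mul_eq_one_right hd,
      inv_eq_of_mul_eq_one_right (tau_sq h eτ)]
    calc τ * dl h a g0 * τ
        = τ * (dl h a τ * dl h a τ) * dl h a g0 * (dl h a τ * dl h a τ) * τ := by
          rw [hd, mul_one, mul_one]
      _ = _ := by simp only [mul_assoc]
  rw [e]
  exact mul_mem (mul_mem ht ⟨_, tau_normalizes_image h hF hι eτ hg0, rfl⟩) (inv_mem ht)

theorem memWord_lt : ∀ e ∈ memWord, e.2.1 < 3 := by decide

theorem cand_low : ∀ k < 2, ∀ i j : Fin 6,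
    ent (candN k) i j = monoC (if k = 0 then 1 else ptau) 0 i j := by decide +kernel

theorem badWord_lt : ∀ e ∈ badWord, e.1 < 32 := by decide

theorem ncWord_len : ∀ a < 2, (kget ncWord a []).length ≠ 0 := by decide +kernel

include h hF hι in
/-- A triple cover over the Sylow subgroup is one of three. -/
theorem exists_eq {K : Subgroup (Cfsg.SU 6 F 2)} (hK : Triple F9 K) (hP : Psub h ≤ K) :
    ∃ a, K = Kc ι h a := by
  obtain ⟨hMK, k, hk, c, hcK, ec, hgen⟩ := exists_form h hF hι hK hP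
  have hcard := card_triple hF hK
  have heq : ∀ a, K ≤ Kc ι h a → K = Kc ι h a := fun a hle =>
    Subgroup.eq_of_le_of_card_ge hle (le_of_eq (by rw [hcard, card_triple hF (triple_Kc h hF hι a)]))
  have hmem : ∀ e ∈ memWord, ∀ c' : Cfsg.SU 6 F 2, mat6 c' = toM w (candN e.1) →
      c' ∈ Kc ι h (e.2.1 : ZMod 3) := by
    intro e he c' ec'
    have hm := memWordB_true
    simp only [memWordB, kall_iff, Nat.beq_eq] at hm
    have e1 := congrArg (toM w) (hm e he)
    obtain ⟨x, hx, ex⟩ := exists_word (k := e.2.2.1) h (scalars_le_imageK h)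
      (fun x hx => gen_table h hF hι hx) (lt_mem e he)
    have hd : toM w (dgN e.2.1) = dg1 w (e.2.1 : ZMod 3) := by
      have := (small_mats h).2.2.2.2 (e.2.1 : ZMod 3)
      rwa [ZMod.val_natCast, Nat.mod_eq_of_lt (memWord_lt e he)] at this
    rw [h.toM_mulN, h.toM_mulN, hd, ← ex, ← ec'] at e1
    refine ⟨x, hx, mat6_inj ?_⟩
    rw [mat6_dl, ← e1, Matrix.mul_assoc, dg1_mul h, add_neg_cancel, dg1_zero, Matrix.mul_one]
  rcases cases32 k hk with hlow | ⟨e, he, hek⟩ | ⟨e, he, rfl⟩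
  · exfalso
    have hle : K ≤ monoSub h ⊤ := hgen.trans (sup_le (monoSub_mono h le_top)
      ((Subgroup.zpowers_le).2 ⟨_, Subgroup.mem_top _, 0,
        ec.trans (toM_of_monoC h (cand_low k hlow))⟩))
    have := Subgroup.card_le_of_le hle
    rw [hcard, card_monoSub h, Subgroup.card_top, Nat.card_perm, Nat.card_fin] at this
    norm_num [Nat.factorial] at this
  · refine ⟨(e.2.1 : ZMod 3), heq _ ?_⟩
    set a : ZMod 3 := (e.2.1 : ZMod 3) with ha
    rcases hek with rfl | ⟨hek, heven⟩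
    · exact hgen.trans (sup_le (msub_le_Kc h hF hι a) (Subgroup.zpowers_le.2 (hmem e he c ec)))
    · obtain ⟨τ, eτ⟩ := exists_tau h
      have hk1 : k + 1 < 32 := by omega
      obtain ⟨c', ec'⟩ := exists_candN h hk1
      obtain ⟨-, hcτ⟩ := cand_succ h hk1 heven ec ec' eτ
      have hc' : c' ∈ Kc ι h a := hmem e he c' (by rw [hek]; exact ec')
      have hconj : ∀ g ∈ Kc ι h a, τ * g * τ ∈ Kc ι h a := fun g hg =>
        tau_normalizes h hF hι eτ a hg
      have hτ2 : τ * τ = 1 := tau_sq h eτ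
      have hc_τ : c * τ ∈ Kc ι h a := by
        rw [hcτ, mul_assoc, hτ2, mul_one]; exact hc'
      let S : Subgroup (Cfsg.SU 6 F 2) :=
        { carrier := {g | g ∈ Kc ι h a ∨ g * τ ∈ Kc ι h a}
          one_mem' := Or.inl (one_mem _)
          mul_mem' := by
            rintro x y (hx | hx) (hy | hy)
            · exact Or.inl (mul_mem hx hy)
            · exact Or.inr (by rw [mul_assoc]; exact mul_mem hx hy)
            · refine Or.inr ?_
              have e : x * y * τ = x * τ * (τ * y * τ) := by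
                rw [show x * τ * (τ * y * τ) = x * (τ * τ) * y * τ by simp only [mul_assoc], hτ2,
                  mul_one]
              rw [e]
              exact mul_mem hx (hconj y hy)
            · refine Or.inl ?_
              have e : x * y = x * τ * (τ * (y * τ) * τ) := by
                rw [show x * τ * (τ * (y * τ) * τ) = x * (τ * τ) * y * (τ * τ) by
                  simp only [mul_assoc], hτ2, mul_one, mul_one]
              rw [e]
              exact mul_mem hx (hconj _ hy)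
          inv_mem' := by
            rintro x (hx | hx)
            · exact Or.inl (inv_mem hx)
            · refine Or.inr ?_
              have h' := hconj _ (inv_mem hx)
              rwa [show τ * (x * τ)⁻¹ * τ = x⁻¹ * τ by group] at h' }
      have hKS : K ≤ S := hgen.trans (sup_le (fun g hg => Or.inl (msub_le_Kc h hF hι a hg))
        (Subgroup.zpowers_le.2 (Or.inr hc_τ)))
      have hτi : τ⁻¹ = τ := inv_eq_of_mul_eq_one_right hτ2
      have hcomm : ⁅K, K⁆ ≤ Kc ι h a := by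
        rw [Subgroup.commutator_le]
        intro g hg g' hg'
        have key : ∀ g ∈ S, g ∈ Kc ι h a ∨ ∃ x ∈ Kc ι h a, g = x * τ := fun g hg =>
          hg.imp_right fun h' => ⟨_, h', by rw [mul_assoc, hτ2, mul_one]⟩
        rw [commutatorElement_def]
        rcases key g (hKS hg) with h1 | ⟨x, hx, rfl⟩ <;>
          rcases key g' (hKS hg') with h2 | ⟨y, hy, rfl⟩
        · exact mul_mem (mul_mem (mul_mem h1 h2) (inv_mem h1)) (inv_mem h2)
        · rw [show g * (y * τ) * g⁻¹ * (y * τ)⁻¹ = g * y * (τ * g⁻¹ * τ⁻¹) * y⁻¹ by group, hτi]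
          exact mul_mem (mul_mem (mul_mem h1 hy) (hconj _ (inv_mem h1))) (inv_mem hy)
        · rw [show x * τ * g' * (x * τ)⁻¹ * g'⁻¹ = x * (τ * g' * τ⁻¹) * x⁻¹ * g'⁻¹ by group, hτi]
          exact mul_mem (mul_mem (mul_mem hx (hconj _ h2)) (inv_mem hx)) (inv_mem h2)
        · rw [show x * τ * (y * τ) * (x * τ)⁻¹ * (y * τ)⁻¹ =
            x * (τ * (y * x⁻¹) * τ⁻¹) * y⁻¹ by group, hτi]
          exact mul_mem (mul_mem hx (hconj _ (mul_mem hy (inv_mem hx)))) (inv_mem hy)
      obtain ⟨hs, ⟨eK⟩⟩ := bar_of_triple h hF hK hP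
      have hperf : ⁅K.map (bar w), K.map (bar w)⁆ = K.map (bar w) := by
        have := U43Mult50.perfect_PSU hF
        have := Group.IsPerfect.ofSurjective (G := Cfsg.PSU 4 F9 3) (f := eK.symm.toMonoidHom)
          eK.symm.surjective
        exact Subgroup.isPerfect_iff.1 this
      intro g hg
      have hg' : bar w g ∈ (⁅K, K⁆).map (bar w) := by
        rw [Subgroup.map_commutator, hperf]; exact ⟨g, hg, rfl⟩
      obtain ⟨g', hg1, hg2⟩ := hg'
      obtain ⟨s, hs', es⟩ := (QuotientGroup.mk'_eq_mk' _).1 hg2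
      rw [← es]
      exact mul_mem (hcomm hg1) (msub_le_Kc h hF hι a (scalars_le h _ hs'))
  · exfalso
    have hb := badWordB_true
    simp only [badWordB, kall_iff, Bool.and_eq_true] at hb
    obtain ⟨hws, hel⟩ := hb e he
    obtain ⟨e0, e1, e2, -⟩ := small_mats h
    have h11 : 11 ∣ Nat.card K := by
      refine h.eleven_dvd (n := 4) (H := K) rfl (fun x hx => ?_) ((kall_iff _ _).2 hws) hel
      interval_cases x
      · obtain ⟨g, eg⟩ := exists_mono h 1 (d := ![1, 2, 0, 0, 0, 0]) (by decide)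
        exact ⟨g, hMK ⟨1, one_mem _, _, eg⟩, eg.trans e0.symm⟩
      · obtain ⟨g, eg⟩ := exists_mono h pc3 (d := 0) (by simp)
        exact ⟨g, hMK ⟨_, Perm.mem_alternatingGroup.2 gens_even.1, _, eg⟩, eg.trans e1.symm⟩
      · obtain ⟨g, eg⟩ := exists_mono h pc5 (d := 0) (by simp)
        exact ⟨g, hMK ⟨_, Perm.mem_alternatingGroup.2 gens_even.2.1, _, eg⟩, eg.trans e2.symm⟩
      · exact ⟨c, hcK, ec⟩
    rw [hcard] at h11
    norm_num at h11

include h hF hι in
/-- The conjugate of the extra element is outside. -/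
theorem dl_x0_not_mem {b : ZMod 3} (hb : b ≠ 0) {x : Cfsg.SU 6 F 2}
    (ex : mat6 x = toM w (candN 15)) : dl h b x ∉ imageK w ι := by
  intro hmem
  obtain ⟨a, ha, hba⟩ : ∃ a < 2, b.val = a + 1 := by
    have : b.val ≠ 0 := fun e => hb ((ZMod.val_eq_zero b).1 e)
    have := ZMod.val_lt b
    exact ⟨b.val - 1, by omega, by omega⟩
  have hn := ncWordB_true
  simp only [ncWordB, kallUpTo_iff, Bool.and_eq_true, Nat.beq_eq] at hn
  obtain ⟨⟨⟨-, heq⟩, hws⟩, hel⟩ := hn a ha
  have hsm := smallB_true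
  simp only [smallB, Bool.and_eq_true, kallUpTo_iff, Nat.beq_eq] at hsm
  have e := congrArg (toM w) heq
  rw [← hba, h.toM_mulN, h.toM_mulN, (small_mats h).2.2.2.2 b, hsm.2, ← ex] at e
  obtain ⟨e0, e1, e2, -⟩ := small_mats h
  have hM := msub_le_imageK (ι := ι) h hF hι
  have h11 : 11 ∣ Nat.card (imageK w ι) := by
    refine h.eleven_dvd (n := 5) (H := imageK w ι) rfl (fun y hy => ?_) hws hel
    interval_cases y
    · obtain ⟨g, eg⟩ := exists_mono h 1 (d := ![1, 2, 0, 0, 0, 0]) (by decide)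
      exact ⟨g, hM ⟨1, one_mem _, _, eg⟩, eg.trans e0.symm⟩
    · obtain ⟨g, eg⟩ := exists_mono h pc3 (d := 0) (by simp)
      exact ⟨g, hM ⟨_, Perm.mem_alternatingGroup.2 gens_even.1, _, eg⟩, eg.trans e1.symm⟩
    · obtain ⟨g, eg⟩ := exists_mono h pc5 (d := 0) (by simp)
      exact ⟨g, hM ⟨_, Perm.mem_alternatingGroup.2 gens_even.2.1, _, eg⟩, eg.trans e2.symm⟩
    · obtain ⟨g, hg, eg⟩ := exists_x0 (w := w) h hF hι
      exact ⟨g, hg, eg.trans (congrArg (toM w) hsm.2.symm)⟩
    · refine ⟨dl h b x, hmem, ?_⟩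
      show _ = toM w (kget conjTab a 0)
      rw [mat6_dl]
      show monoM w 1 (Pi.single 0 b) * mat6 x * _ = _
      rw [e, Matrix.mul_assoc]
      show _ * (dg1 w b * dg1 w (-b)) = _
      rw [dg1_mul h, add_neg_cancel, dg1_zero, Matrix.mul_one]
  rw [card_triple hF (triple_of_bar h hF (scalars_le_imageK h) (imageK_bar h hF hι).some)] at h11
  norm_num at h11

include hF hι in
/-- The three are not conjugate. -/
theorem Kc_not_conj {i j : ZMod 3} (hij : i ≠ j) (g : Cfsg.SU 6 F 2) :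
    (Kc ι h i).map (MulAut.conj g).toMonoidHom ≠ Kc ι h j := by
  suffices key : ∀ b : ZMod 3, b ≠ 0 → ∀ g : Cfsg.SU 6 F 2,
      (imageK w ι).map (MulAut.conj g).toMonoidHom ≠ Kc ι h b by
    intro e
    refine key (j - i) (sub_ne_zero.2 (Ne.symm hij)) (dl h (-i) g) ?_
    have e' := congrArg (Subgroup.map (dl h (-i))) e
    rw [map_Kc, show -i + j = j - i by ring, Subgroup.map_map,
      show (dl h (-i)).comp (MulAut.conj g).toMonoidHom =
        (MulAut.conj (dl h (-i) g)).toMonoidHom.comp (dl h (-i)) from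
          MonoidHom.ext fun x => by simp [map_mul, map_inv],
      ← Subgroup.map_map, map_Kc, neg_add_cancel, Kc_zero] at e'
    exact e'
  intro b hb g e
  obtain ⟨τ, eτ⟩ := exists_tau h
  have hPM : Psub h ≤ Msub h := monoSub_mono h nine_le_alternating
  have hP0 : Psub h ≤ imageK w ι := hPM.trans (msub_le_imageK h hF hι)
  obtain ⟨k, hk, hkP⟩ := exists_conj_mem (K := Kc ι h b) (n := 7) (m := 4480)
    (by rw [card_triple hF (triple_Kc h hF hι b)]; rfl) (by norm_num)
    (A := (Psub h).map (MulAut.conj g).toMonoidHom) (B := Psub h)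
    (e ▸ Subgroup.map_mono hP0) (hPM.trans (msub_le_Kc h hF hι b))
    (by rw [Nat.card_congr (Subgroup.equivMapOfInjective _ _
      (MulAut.conj g).injective).toEquiv.symm, card_Psub h]) (card_Psub h)
  rw [Subgroup.map_map, show (MulAut.conj k).toMonoidHom.comp (MulAut.conj g).toMonoidHom =
    (MulAut.conj (k * g)).toMonoidHom from MonoidHom.ext fun x => by simp [mul_assoc]] at hkP
  have hT : (Tsub h).map (MulAut.conj (k * g)).toMonoidHom = Tsub h := by
    refine eq_T_of_abelian h (hkP ▸ Subgroup.map_mono (monoSub_mono h bot_le)) ?_ ?_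
    · rw [Nat.card_congr (Subgroup.equivMapOfInjective _ _
        (MulAut.conj (k * g)).injective).toEquiv.symm, card_monoSub h, Subgroup.card_bot]
    · rintro _ ⟨x, ⟨π, hπ, d, ed⟩, rfl⟩ _ ⟨y, ⟨σ, hσ, d', ed'⟩, rfl⟩
      have hxy : Commute x y := mat6_inj (by
        rw [mat6_mul, mat6_mul, ed, ed', monoM_mul h, monoM_mul h, Subgroup.mem_bot.1 hπ,
          Subgroup.mem_bot.1 hσ]
        congr 1
        funext j
        simp [add_comm])
      exact (hxy.map _).map _
  obtain ⟨π, -, d, ed⟩ := mem_mono_of_normalizes h (g := k * g) fun t ht =>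
    hT ▸ ⟨t, ht, rfl⟩
  have hnorm : ∀ x ∈ imageK w ι, k * g * x * (k * g)⁻¹ ∈ imageK w ι := by
    intro x hx
    rcases Int.units_eq_one_or (Perm.sign π) with hs | hs
    · have hm : k * g ∈ imageK w ι :=
        msub_le_imageK h hF hι ⟨π, Perm.mem_alternatingGroup.2 hs, d, ed⟩
      exact mul_mem (mul_mem hm hx) (inv_mem hm)
    · have hm : τ * (k * g) ∈ imageK w ι := msub_le_imageK h hF hι
        ⟨ptau * π, Perm.mem_alternatingGroup.2 (by rw [map_mul, tau_odd, hs, neg_mul_neg, one_mul]),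
          _, by rw [mat6_mul, eτ, ed, monoM_mul h]⟩
      have h' := tau_normalizes_image h hF hι eτ (mul_mem (mul_mem hm hx) (inv_mem hm))
      have e2 : τ * (τ * (k * g) * x * (τ * (k * g))⁻¹) * τ = k * g * x * (k * g)⁻¹ := by
        rw [_root_.mul_inv_rev, inv_eq_of_mul_eq_one_right (tau_sq h eτ)]
        calc τ * (τ * (k * g) * x * ((k * g)⁻¹ * τ)) * τ
            = τ * τ * (k * g) * x * (k * g)⁻¹ * (τ * τ) := by simp only [mul_assoc]
          _ = _ := by rw [tau_sq h eτ, one_mul, mul_one]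
      rwa [e2] at h'
  obtain ⟨x, hx, ex⟩ := exists_x0 (w := w) h hF hι
  refine dl_x0_not_mem (ι := ι) h hF hι hb ex ?_
  have hdx : dl h b x ∈ Kc ι h b := ⟨x, hx, rfl⟩
  have hdx' : k⁻¹ * dl h b x * k ∈ Kc ι h b := mul_mem (mul_mem (inv_mem hk) hdx) hk
  rw [← e] at hdx'
  obtain ⟨y, hy, ey⟩ := hdx'
  simp only [MulEquiv.coe_toMonoidHom, MulAut.conj_apply] at ey
  have := hnorm y hy
  rwa [show k * g * y * (k * g)⁻¹ = k * (g * y * g⁻¹) * k⁻¹ by group, ey,
    show k * (k⁻¹ * dl h b x * k) * k⁻¹ = dl h b x by group] at this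

/-- A field of four elements has a generator. -/
theorem exists_isF4 (hF : Fintype.card F = 4) : ∃ w : F, IsF4 w := by
  classical
  obtain ⟨w, -, hw0, hw1⟩ : ∃ w ∈ (Finset.univ : Finset F), w ≠ 0 ∧ w ≠ 1 := by
    by_contra hcon
    push Not at hcon
    have hsub : (Finset.univ : Finset F) ⊆ {0, 1} := fun x hx => by
      rcases eq_or_ne x 0 with e | e
      · simp [e]
      · simp [hcon x hx e]
    have := Finset.card_le_card hsub
    rw [Finset.card_univ, hF] at this
    exact absurd (this.trans (Finset.card_le_two)) (by norm_num)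
  have h2 : (2 : F) = 0 := by
    have := Nat.cast_card_eq_zero F
    rw [hF] at this
    exact eq_zero_of_pow_eq_zero (n := 2) (by rw [← this]; norm_num)
  refine ⟨w, by rw [hF]; rfl, ?_⟩
  have h3 := FiniteField.pow_card_sub_one_eq_one w hw0
  rw [hF] at h3
  have : (w - 1) * (w * w + w + 1) = 0 := by linear_combination h3
  rcases mul_eq_zero.1 this with e | e
  · exact absurd (sub_eq_zero.1 e) hw1
  · linear_combination e - (w + 1) * h2

include h hF hι in
/-- The classification. -/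
theorem main : ∃ K₁ K₂ K₃ : Subgroup (Cfsg.SU 6 F 2),
    (∀ K ∈ [K₁, K₂, K₃], Nat.card (Subgroup.center K) = 3 ∧
      Nonempty (K ⧸ Subgroup.center K ≃* Cfsg.PSU 4 F9 3)) ∧
    (¬ ∃ g : Cfsg.SU 6 F 2, K₁.map (MulAut.conj g).toMonoidHom = K₂) ∧
    (¬ ∃ g : Cfsg.SU 6 F 2, K₁.map (MulAut.conj g).toMonoidHom = K₃) ∧
    (¬ ∃ g : Cfsg.SU 6 F 2, K₂.map (MulAut.conj g).toMonoidHom = K₃) ∧
    ∀ K : Subgroup (Cfsg.SU 6 F 2), Nat.card (Subgroup.center K) = 3 →
      Nonempty (K ⧸ Subgroup.center K ≃* Cfsg.PSU 4 F9 3) →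
      ∃ g : Cfsg.SU 6 F 2, K.map (MulAut.conj g).toMonoidHom = K₁ ∨
        K.map (MulAut.conj g).toMonoidHom = K₂ ∨ K.map (MulAut.conj g).toMonoidHom = K₃ := by
  refine ⟨Kc ι h 0, Kc ι h 1, Kc ι h 2, ?_, fun ⟨g, e⟩ => Kc_not_conj h hF hι (by decide) g e,
    fun ⟨g, e⟩ => Kc_not_conj h hF hι (by decide) g e,
    fun ⟨g, e⟩ => Kc_not_conj h hF hι (by decide) g e, ?_⟩
  · intro K hK
    simp only [List.mem_cons, List.not_mem_nil, or_false] at hK
    rcases hK with rfl | rfl | rfl <;> exact triple_Kc h hF hι _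
  intro K h3 hiso
  have hK : Triple F9 K := ⟨h3, hiso⟩
  have := Fact.mk Nat.prime_three
  have hdvd : 3 ^ 7 ∣ Nat.card K := by rw [card_triple hF hK]; norm_num
  obtain ⟨S, hS⟩ := Sylow.exists_subgroup_card_pow_prime 3 hdvd
  obtain ⟨g, hg⟩ := exists_conj_of_card (n := 7) (m := 12615680)
    (by rw [SuMult50.card_SU_six_two h.card]; rfl) (by norm_num)
    (A := S.map K.subtype) (B := Psub h)
    (by rw [Nat.card_congr (Subgroup.equivMapOfInjective _ _ K.subtype_injective).toEquiv.symm, hS])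
    (card_Psub h)
  have hP : Psub h ≤ K.map (MulAut.conj g).toMonoidHom :=
    hg ▸ Subgroup.map_mono (Subgroup.map_subtype_le S)
  obtain ⟨a, ha⟩ := exists_eq h hF hι (triple_map _ (MulAut.conj g).injective hK) hP
  refine ⟨g, ?_⟩
  rw [ha]
  fin_cases a
  exacts [Or.inl rfl, Or.inr (Or.inl rfl), Or.inr (Or.inr rfl)]

end Cfsg.Agent.SU62Sub75
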