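import Cfsg.Agent.Lib.ChevCore.Eval
import Cfsg.Agent.Lib.CosetEnum.Pack
import Cfsg.Prelude.Def_Classical

/-!
Four elements on the numbers `a + 2b`, standing for `a + bw`, and coded `6 × 6` matrices (helper75).
-/

set_option autoImplicit false
set_option linter.unusedSectionVars false

namespace Cfsg.Agent.SU62Sub75

open Matrix Cfsg.Agent.ChevCore Cfsg.Agent.CosetEnum

/-- The sum. -/
def madd (a b : ℕ) : ℕ := (a % 2 + b % 2) % 2 + 2 * ((a / 2 + b / 2) % 2)

/-- The product. -/
def mulF (a b : ℕ) : ℕ :=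
  (a % 2 * (b % 2) + a / 2 * (b / 2)) % 2 +
    2 * ((a % 2 * (b / 2) + a / 2 * (b % 2) + a / 2 * (b / 2)) % 2)

/-- The conjugate. -/
def cjF (a : ℕ) : ℕ := (a % 2 + a / 2) % 2 + 2 * (a / 2 % 2)

/-- The code of a power of `w`. -/
def wc (k : ℕ) : ℕ := k % 3 + 1

/-- A sum of six. -/
def sum6 (f : ℕ → ℕ) : ℕ := madd (madd (madd (f 0) (f 1)) (madd (f 2) (f 3))) (madd (f 4) (f 5))

theorem madd_lt (a b : ℕ) : madd a b < 4 := by unfold madd; omega

theorem mulF_lt (a b : ℕ) : mulF a b < 4 := by unfold mulF; omega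

theorem cjF_lt (a : ℕ) : cjF a < 4 := by unfold cjF; omega

theorem sum6_lt (f : ℕ → ℕ) : sum6 f < 4 := madd_lt _ _

/-- An entry of a coded matrix. -/
def ent (A i j : ℕ) : ℕ := A >>> (2 * (6 * i + j)) % 4

/-- An entry of a coded vector. -/
def vc (v i : ℕ) : ℕ := v >>> (2 * i) % 4

/-- The number with the given base four digits. -/
noncomputable def pack4 (f : ℕ → ℕ) (m : ℕ) : ℕ → ℕ :=
  Nat.rec (motive := fun _ => ℕ → ℕ) (fun _ => 0) (fun _ ih a => f a + 4 * ih (a + 1)) m

theorem pack4_digit {f : ℕ → ℕ} (hf : ∀ a, f a < 4) :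
    ∀ {m k : ℕ}, k < m → ∀ a, pack4 f m a >>> (2 * k) % 4 = f (a + k) := by
  intro m
  induction m with
  | zero => intro k hk; omega
  | succ m ih =>
    intro k hk a
    show (f a + 4 * pack4 f m (a + 1)) >>> (2 * k) % 4 = _
    cases k with
    | zero =>
      have := hf a
      simp only [Nat.mul_zero, Nat.shiftRight_zero, Nat.add_zero]
      omega
    | succ k =>
      have := hf a
      rw [show 2 * (k + 1) = 2 + 2 * k by ring, Nat.shiftRight_add,
        show (f a + 4 * pack4 f m (a + 1)) >>> 2 = pack4 f m (a + 1) by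
          rw [Nat.shiftRight_eq_div_pow]; omega,
        ih (by omega), show a + 1 + k = a + (k + 1) by ring]

/-- The coded matrix with the given entries. -/
noncomputable def packM (e : ℕ → ℕ → ℕ) : ℕ := pack4 (fun n => e (n / 6) (n % 6)) 36 0

theorem ent_packM {e : ℕ → ℕ → ℕ} (he : ∀ i j, e i j < 4) {i j : ℕ} (hi : i < 6) (hj : j < 6) :
    ent (packM e) i j = e i j := by
  rw [ent, packM, pack4_digit (fun n => he (n / 6) (n % 6)) (by omega)]
  have h1 : (0 + (6 * i + j)) / 6 = i := by omega
  have h2 : (0 + (6 * i + j)) % 6 = j := by omega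
  rw [h1, h2]

/-- The product of two coded matrices. -/
noncomputable def mulN (A B : ℕ) : ℕ :=
  forceNat A fun a => forceNat B fun b =>
    packM fun i j => sum6 fun k => mulF (ent a i k) (ent b k j)

/-- The conjugate transpose. -/
noncomputable def adjN (A : ℕ) : ℕ := forceNat A fun a => packM fun i j => cjF (ent a j i)

/-- A scalar matrix. -/
noncomputable def scN (k : ℕ) : ℕ := packM fun i j => bif Nat.beq i j then wc k else 0

/-- A word in the entries of a table, times a scalar. -/
noncomputable def evalW (tab : List ℕ) (k : ℕ) (ws : List ℕ) : ℕ :=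
  List.rec (motive := fun _ => ℕ → ℕ) (fun acc => acc)
    (fun x _ ih acc => forceNat (mulN acc (kget tab x 0)) ih) ws (scN k)

/-- A power. -/
noncomputable def powN (A n : ℕ) : ℕ :=
  forceNat A fun a => Nat.rec (motive := fun _ => ℕ) (scN 0)
    (fun _ acc => forceNat acc fun c => mulN c a) n

variable {F : Type} [Field F]

/-- `w` generates a field of four elements. -/
structure IsF4 [Fintype F] (w : F) : Prop where
  card : Fintype.card F = 2 ^ 2
  eq : w * w = w + 1

/-- The element of a code. -/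
def val (w : F) (a : ℕ) : F := ((a % 2 : ℕ) : F) + ((a / 2 : ℕ) : F) * w

/-- The matrix of a code. -/
def toM (w : F) (A : ℕ) : Matrix (Fin 6) (Fin 6) F := Matrix.of fun i j => val w (ent A i j)

/-- The vector of a code. -/
def toV (w : F) (v : ℕ) : Fin 6 → F := fun i => val w (vc v i)

/-- Entrywise conjugation. -/
def cjM {n : ℕ} (M : Matrix (Fin n) (Fin n) F) : Matrix (Fin n) (Fin n) F := M.map fun x => x ^ 2

/-- The conjugate transpose. -/
def adjM {n : ℕ} (M : Matrix (Fin n) (Fin n) F) : Matrix (Fin n) (Fin n) F := (cjM M)ᵀ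

/-- `w ^ e`. -/
def wz (w : F) (e : ZMod 3) : F := w ^ e.val

variable [Fintype F] {w : F}

namespace IsF4

variable (h : IsF4 w)
include h

theorem two : (2 : F) = 0 := by
  have := Nat.cast_card_eq_zero F
  rw [h.card] at this
  have e : (2 : F) ^ 2 = 0 := by rw [← this]; norm_num
  exact eq_zero_of_pow_eq_zero e

theorem charP : CharP F 2 :=
  (CharP.charP_iff_prime_eq_zero Nat.prime_two).2 (by exact_mod_cast h.two)

theorem ne_zero : w ≠ 0 := by
  intro e
  have := h.eq
  simp [e] at this

theorem ne_one : w ≠ 1 := by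
  intro e
  have := h.eq
  simp [e] at this

theorem cube : w ^ 3 = 1 := by linear_combination (w + 1) * h.eq + w * h.two

theorem cast_mod_two (n : ℕ) : ((n % 2 : ℕ) : F) = (n : F) := by
  conv_rhs => rw [← Nat.mod_add_div n 2, Nat.cast_add, Nat.cast_mul, Nat.cast_ofNat, h.two,
    zero_mul, add_zero]

theorem cast_sq (n : ℕ) : (n : F) ^ 2 = n := by
  rw [← h.cast_mod_two n]
  rcases Nat.mod_two_eq_zero_or_one n with e | e <;> simp [e]

theorem val_pack (X Y : ℕ) : val w (X % 2 + 2 * (Y % 2)) = (X : F) + (Y : F) * w := by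
  rw [val, show (X % 2 + 2 * (Y % 2)) % 2 = X % 2 by omega,
    show (X % 2 + 2 * (Y % 2)) / 2 = Y % 2 by omega, h.cast_mod_two, h.cast_mod_two]

theorem val_madd (a b : ℕ) : val w (madd a b) = val w a + val w b := by
  rw [madd, h.val_pack, val, val]
  push_cast
  ring

theorem val_mulF (a b : ℕ) : val w (mulF a b) = val w a * val w b := by
  rw [mulF, h.val_pack, val, val]
  push_cast
  linear_combination (-((a / 2 : ℕ) : F) * ((b / 2 : ℕ) : F)) * h.eq

theorem val_cjF (a : ℕ) : val w (cjF a) = val w a ^ 2 := by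
  rw [cjF, h.val_pack, val]
  push_cast
  linear_combination -h.cast_sq (a % 2) - w * w * h.cast_sq (a / 2) -
    ((a / 2 : ℕ) : F) * h.eq - ((a % 2 : ℕ) : F) * ((a / 2 : ℕ) : F) * w * h.two

theorem val_zero : val w 0 = 0 := by simp [val]

theorem val_one : val w 1 = 1 := by simp [val]

theorem val_wc (k : ℕ) : val w (wc k) = w ^ k := by
  rw [wc]
  conv_rhs => rw [← Nat.mod_add_div k 3, pow_add, pow_mul, h.cube, one_pow, mul_one]
  have : k % 3 = 0 ∨ k % 3 = 1 ∨ k % 3 = 2 := by omega
  rcases this with e | e | e <;> rw [e] <;> simp [val]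
  linear_combination -h.eq

theorem val_sum6 (f : ℕ → ℕ) : val w (sum6 f) = ∑ k : Fin 6, val w (f k) := by
  simp only [sum6, h.val_madd, Fin.sum_univ_six]
  simp only [Fin.val_zero, Fin.val_one]
  show _ = _ + val w (f 2) + val w (f 3) + val w (f 4) + val w (f 5)
  ring

theorem val_inj {a b : ℕ} (ha : a < 4) (hb : b < 4) (e : val w a = val w b) : a = b := by
  have h1 : (1 : F) ≠ 0 := one_ne_zero
  have hw := h.ne_zero
  have hw1 := h.ne_one
  have hs : (1 : F) + w ≠ 0 := fun e => hw1 (by linear_combination e - h.two)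
  interval_cases a <;> interval_cases b <;>
    first
    | rfl
    | (simp [val] at e; done)
    | (simp [val] at e
       first
       | exact absurd e hw
       | exact absurd e.symm hw
       | exact absurd e hw1
       | exact absurd e.symm hw1
       | exact absurd e hs
       | exact absurd e.symm hs)

theorem exists_val (x : F) : ∃ a < 4, val w a = x := by
  classical
  let f : Fin 4 → F := fun a => val w a
  have hf : Function.Bijective f := (Fintype.bijective_iff_injective_and_card f).2
    ⟨fun a b e => Fin.ext (h.val_inj a.isLt b.isLt e), by rw [h.card]; rfl⟩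
  obtain ⟨a, rfl⟩ := hf.2 x
  exact ⟨a, a.isLt, rfl⟩

theorem pow_three (x : F) (hx : x ≠ 0) : x ^ 3 = 1 := by
  have := FiniteField.pow_card_sub_one_eq_one x hx
  rwa [h.card] at this

theorem pow_four (x : F) : x ^ 4 = x := by
  rcases eq_or_ne x 0 with rfl | hx
  · simp
  · rw [pow_succ, h.pow_three x hx, one_mul]

theorem cj_add (x y : F) : (x + y) ^ 2 = x ^ 2 + y ^ 2 := by
  linear_combination x * y * h.two

theorem cj_sum {ι : Type*} (s : Finset ι) (f : ι → F) :
    (∑ i ∈ s, f i) ^ 2 = ∑ i ∈ s, f i ^ 2 := by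
  have := h.charP
  exact sum_pow_char 2 s f

theorem wz_add (a b : ZMod 3) : wz w (a + b) = wz w a * wz w b := by
  rw [wz, wz, wz, ← pow_add, ZMod.val_add, ← pow_mod_orderOf]
  conv_rhs => rw [← pow_mod_orderOf]
  have : orderOf w = 3 := orderOf_eq_prime h.cube h.ne_one
  rw [this, Nat.mod_mod]

theorem wz_ne_zero (a : ZMod 3) : wz w a ≠ 0 := pow_ne_zero _ h.ne_zero

theorem wz_sq (a : ZMod 3) : wz w a ^ 2 = wz w (-a) := by
  have h3 : ∀ a : ZMod 3, -a = a + a := by decide
  rw [h3, h.wz_add, sq]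

omit h in
theorem wz_zero : wz w 0 = 1 := by simp [wz]

theorem wz_inj {a b : ZMod 3} (e : wz w a = wz w b) : a = b := by
  have e' : val w (wc a.val) = val w (wc b.val) := by rw [h.val_wc, h.val_wc]; exact e
  have := h.val_inj (by unfold wc; omega) (by unfold wc; omega) e'
  have ha := ZMod.val_lt a
  have hb := ZMod.val_lt b
  exact ZMod.val_injective 3 (by unfold wc at this; omega)

theorem toM_mulN (A B : ℕ) : toM w (mulN A B) = toM w A * toM w B := by
  ext i j
  rw [Matrix.mul_apply, mulN, forceNat_eq, forceNat_eq]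
  show val w (ent _ i j) = _
  rw [ent_packM (fun _ _ => sum6_lt _) i.isLt j.isLt, h.val_sum6]
  simp only [h.val_mulF]
  rfl

theorem toM_adjN (A : ℕ) : toM w (adjN A) = adjM (toM w A) := by
  ext i j
  show val w (ent _ i j) = val w (ent A j i) ^ 2
  rw [adjN, forceNat_eq, ent_packM (fun _ _ => cjF_lt _) i.isLt j.isLt, h.val_cjF]

theorem toM_scN (k : ℕ) : toM w (scN k) = w ^ k • (1 : Matrix (Fin 6) (Fin 6) F) := by
  ext i j
  show val w (ent _ i j) = _
  rw [scN, ent_packM (fun a b => by
    cases Nat.beq a b <;> simp [wc]; omega) i.isLt j.isLt, Matrix.smul_apply, Matrix.one_apply]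
  by_cases hij : i = j
  · subst hij; simp [h.val_wc]
  · have : Nat.beq (i : ℕ) j = false := by
      rw [← Bool.not_eq_true, Nat.beq_eq]; exact fun e => hij (Fin.ext e)
    simp [this, hij, h.val_zero]

theorem toM_one : toM w (scN 0) = (1 : Matrix (Fin 6) (Fin 6) F) := by
  rw [h.toM_scN, pow_zero, one_smul]

theorem toM_powN (A n : ℕ) : toM w (powN A n) = toM w A ^ n := by
  induction n with
  | zero => rw [powN, forceNat_eq]; exact h.toM_one.trans (pow_zero _).symm
  | succ n ih =>
    rw [powN, forceNat_eq] at ih ⊢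
    show toM w (forceNat _ fun c => mulN c A) = _
    rw [forceNat_eq, h.toM_mulN, ih, pow_succ]

theorem toM_evalW (tab : List ℕ) (k : ℕ) (ws : List ℕ) :
    toM w (evalW tab k ws) = w ^ k • (ws.map fun x => toM w (kget tab x 0)).prod := by
  have : ∀ acc, toM w (List.rec (motive := fun _ => ℕ → ℕ) (fun acc => acc)
      (fun x _ ih acc => forceNat (mulN acc (kget tab x 0)) ih) ws acc) =
      toM w acc * (ws.map fun x => toM w (kget tab x 0)).prod := by
    induction ws with
    | nil => intro acc; simp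
    | cons x ws ih =>
      intro acc
      show toM w (forceNat _ _) = _
      rw [forceNat_eq, ih, h.toM_mulN, List.map_cons, List.prod_cons, Matrix.mul_assoc]
  rw [evalW, this, h.toM_scN, Matrix.smul_mul, Matrix.one_mul]

theorem toM_inj {A B : ℕ} (e : toM w A = toM w B) {i j : ℕ} (hi : i < 6) (hj : j < 6) :
    ent A i j = ent B i j :=
  h.val_inj (Nat.mod_lt _ (by norm_num)) (Nat.mod_lt _ (by norm_num))
    (congrFun (congrFun e ⟨i, hi⟩) ⟨j, hj⟩)

theorem cjM_mul {n : ℕ} (M N : Matrix (Fin n) (Fin n) F) : cjM (M * N) = cjM M * cjM N := by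
  ext i j
  simp only [cjM, Matrix.map_apply, Matrix.mul_apply, h.cj_sum, mul_pow]

theorem adjM_mul {n : ℕ} (M N : Matrix (Fin n) (Fin n) F) : adjM (M * N) = adjM N * adjM M := by
  rw [adjM, h.cjM_mul, Matrix.transpose_mul]; rfl

theorem adjM_one {n : ℕ} : adjM (1 : Matrix (Fin n) (Fin n) F) = 1 := by
  rw [adjM, cjM, Matrix.map_one _ (by simp) (by simp), Matrix.transpose_one]

end IsF4

end Cfsg.Agent.SU62Sub75
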