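import Cfsg.Agent.SU62Sub75.Data
import Cfsg.Agent.SU62Sub75.Field
import Cfsg.Agent.U43Mult50.Check

/-!
The certificate for the subgroups `3.U_4(3)` of `SU_6(2)`, checked by the kernel (helper75).
-/

set_option autoImplicit false

namespace Cfsg.Agent.SU62Sub75

open Cfsg.Agent.ChevCore Cfsg.Agent.CosetEnum

/-- An entry of a table of matrices. -/
noncomputable def genN (k : ℕ) : ℕ := kget genTab6 k 0

/-- An entry of a table of matrices. -/
noncomputable def smallN (k : ℕ) : ℕ := kget smallTab k 0

/-- A representative. -/
noncomputable def candN (k : ℕ) : ℕ := kget candTab k 0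

/-- A root. -/
def rootN (i : ℕ) : ℕ := rootTab >>> (12 * i) % 4096

/-- The diagonal matrix with first entry `w ^ a`. -/
noncomputable def dgN (a : ℕ) : ℕ :=
  packM fun i j => bif Nat.beq i j then (bif Nat.beq i 0 then wc a else 1) else 0

/-- The transposition of the first two coordinates. -/
noncomputable def tauN : ℕ :=
  packM fun i j => bif Nat.beq i (bif Nat.beq j 0 then 1 else bif Nat.beq j 1 then 0 else j)
    then 1 else 0

/-- A matrix preserving the form. -/
noncomputable def unitN (A : ℕ) : Bool := Nat.beq (mulN (adjN A) A) (scN 0)

/-- A nontrivial element whose eleventh power is trivial. -/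
noncomputable def elevenN (A : ℕ) : Bool :=
  forceNat A fun a => (kanyUpTo 6 fun i => kanyUpTo 6 fun j =>
    !Nat.beq (ent a i j) (ent (scN 0) i j)) && Nat.beq (powN a 11) (scN 0)

/-- The five generators are unitary and invertible. -/
noncomputable def gensB : Bool :=
  kallUpTo 5 fun k => Nat.beq (mulN (genN k) (genN (k + 5))) (scN 0)

/-- The small generators are unitary, invertible, and of order dividing a power prime to 3. -/
noncomputable def smallB : Bool :=
  (kallUpTo 4 fun k => unitN (smallN k) && Nat.beq (mulN (smallN k) (smallN (k + 4))) (scN 0)) &&
  Nat.beq (smallN 3) (candN 15)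

/-- The representatives. -/
noncomputable def candB : Bool :=
  kallUpTo 32 fun k => unitN (candN k) &&
    (Nat.beq (k % 2) 1 || Nat.beq (powN (candN k) 4) (scN 0)) &&
    (Nat.beq (k % 2) 0 || Nat.beq (candN k) (mulN (candN (k - 1)) tauN))

/-- The inner products of the roots. -/
noncomputable def gramB : Bool :=
  kallUpTo 126 fun i => forceNat (rootN i) fun u => kallUpTo 126 fun j =>
    forceNat (rootN j) fun v =>
      Nat.beq (sum6 fun k => mulF (vc u k) (cjF (vc v k))) (U43Mult50.tN i j)

/-- The generators move the roots as the permutations do. -/
noncomputable def actB : Bool :=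
  kallUpTo 5 fun g => forceNat (genN g) fun A => kallUpTo 126 fun i =>
    forceNat (rootN i) fun u => forceNat (rootN (U43Mult50.piN g i)) fun v =>
      forceNat (wc (U43Mult50.cN g i)) fun c => kallUpTo 6 fun r =>
        Nat.beq (sum6 fun k => mulF (ent A r k) (vc u k)) (mulF c (vc v r))

/-- The first six roots form a basis. -/
noncomputable def baseB : Bool :=
  Nat.beq (mulN baseN binvN) (scN 0) && Nat.beq (mulN binvN baseN) (scN 0) &&
  kallUpTo 6 fun r => kallUpTo 6 fun b => Nat.beq (ent baseN r b) (vc (rootN b) r)

/-- The monomial generators lie in the image. -/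
noncomputable def smallWordB : Bool :=
  kallUpTo 3 fun k => Nat.beq (smallN k)
    (evalW genTab6 (kget smallWord k (0, [])).1 (kget smallWord k (0, [])).2)

/-- The five generators lie in the group of the small generators. -/
noncomputable def backWordB : Bool :=
  kallUpTo 5 fun k => Nat.beq (genN k)
    (evalW smallTab (kget backWord k (0, [])).1 (kget backWord k (0, [])).2)

/-- Nine representatives lie in conjugates of the image. -/
noncomputable def memWordB : Bool :=
  kall memWord fun e =>
    Nat.beq (mulN (candN e.1) (dgN e.2.1)) (mulN (dgN e.2.1) (evalW genTab6 e.2.2.1 e.2.2.2))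

/-- Twelve representatives generate elements of order eleven. -/
noncomputable def badWordB : Bool :=
  kall badWord fun e => kall e.2 (fun x => Nat.blt x 4) && elevenN (evalW
    [smallN 0, smallN 1, smallN 2, candN e.1] 0 e.2)

/-- The diagonal matrices do not normalise the image. -/
noncomputable def ncWordB : Bool :=
  kallUpTo 2 fun a => unitN (kget conjTab a 0) &&
    Nat.beq (mulN (dgN (a + 1)) (smallN 3)) (mulN (kget conjTab a 0) (dgN (a + 1))) &&
    kall (kget ncWord a []) (fun x => Nat.blt x 5) &&
    elevenN (evalW [smallN 0, smallN 1, smallN 2, smallN 3, kget conjTab a 0] 0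
      (kget ncWord a []))

theorem gensB_true : gensB = true := by decide +kernel

theorem smallB_true : smallB = true := by decide +kernel

theorem candB_true : candB = true := by decide +kernel

theorem gramB_true : gramB = true := by decide +kernel

theorem actB_true : actB = true := by decide +kernel

theorem baseB_true : baseB = true := by decide +kernel

theorem smallWordB_true : smallWordB = true := by decide +kernel

theorem backWordB_true : backWordB = true := by decide +kernel

theorem memWordB_true : memWordB = true := by decide +kernel

theorem badWordB_true : badWordB = true := by decide +kernel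

theorem ncWordB_true : ncWordB = true := by decide +kernel

end Cfsg.Agent.SU62Sub75
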