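import Mathlib

/-!
Finite facts on permutations of six points and exponent vectors modulo three (helper75).
-/

set_option autoImplicit false

namespace Cfsg.Agent.SU62Sub75

open Equiv

/-- The cycle `(0 1 2)`. -/
def pc3 : Perm (Fin 6) := swap 0 1 * swap 1 2

/-- The cycle `(3 4 5)`. -/
def pc3' : Perm (Fin 6) := swap 3 4 * swap 4 5

/-- The cycle `(1 2 3 4 5)`. -/
def pc5 : Perm (Fin 6) := swap 1 2 * swap 2 3 * swap 3 4 * swap 4 5

/-- The transposition `(0 1)`. -/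
def ptau : Perm (Fin 6) := swap 0 1

/-- The group of order nine. -/
def nine : Subgroup (Perm (Fin 6)) := Subgroup.centralizer {pc3, pc3'}

theorem mem_nine {σ : Perm (Fin 6)} : σ ∈ nine ↔ pc3 * σ = σ * pc3 ∧ pc3' * σ = σ * pc3' := by
  simp [nine, Subgroup.mem_centralizer_iff]

/-- Exponent vectors of determinant one. -/
abbrev Dv := {d : Fin 6 → ZMod 3 // ∑ j, d j = 0}

/-- The exponent vector of `t`. -/
def tvec : Fin 6 → ZMod 3 := ![1, 1, 1, 0, 0, 0]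

theorem card_Dv : Fintype.card Dv = 243 := by decide +kernel

theorem card_nine_aux : (Finset.univ.filter fun σ : Perm (Fin 6) =>
    pc3 * σ = σ * pc3 ∧ pc3' * σ = σ * pc3').card = 9 := by decide +kernel

theorem fixed_le_aux : ∀ σ : Perm (Fin 6), pc3 * σ = σ * pc3 ∧ pc3' * σ = σ * pc3' → σ ≠ 1 →
    (Finset.univ.filter fun d : Dv => ∃ e : ZMod 3, ∀ j, d.1 (σ j) - d.1 j = e).card ≤ 27 := by
  decide +kernel

theorem fixed_both_card : (Finset.univ.filter fun d : Dv =>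
    (∃ e : ZMod 3, ∀ j, d.1 (pc3 j) - d.1 j = e) ∧
      ∃ e : ZMod 3, ∀ j, d.1 (pc3' j) - d.1 j = e).card ≤ 9 := by decide +kernel

theorem fixed_both_span : ∀ d : Dv, (∃ e : ZMod 3, ∀ j, d.1 (pc3 j) - d.1 j = e) →
    (∃ e : ZMod 3, ∀ j, d.1 (pc3' j) - d.1 j = e) →
    ∃ a e : ZMod 3, ∀ j, d.1 j = a * tvec j + e := by decide +kernel

/-- Words in `pc5` (`0`) and `pc3` (`1`) for the three-cycles. -/
def cycWords : List (List ℕ) :=
  [[1],
     [1, 1],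
     [1, 0, 1, 0, 0, 0],
     [1, 0, 0, 0, 1, 0],
     [0, 1, 0, 1, 0, 0],
     [0, 1, 0, 0, 0, 1],
     [0, 1, 0, 0, 0, 0],
     [0, 0, 1, 0, 1, 0],
     [0, 0, 1, 0, 0, 0],
     [0, 0, 0, 1, 0, 1],
     [0, 0, 0, 1, 0, 0],
     [0, 0, 0, 0, 1, 0],
     [1, 0, 1, 0, 1, 0, 0],
     [1, 0, 1, 0, 0, 1, 0],
     [1, 0, 1, 0, 0, 0, 0],
     [1, 0, 0, 1, 0, 1, 0],
     [1, 0, 0, 0, 0, 1, 0],
     [0, 1, 1, 0, 0, 0, 0],
     [0, 1, 0, 1, 0, 0, 0],
     [0, 1, 0, 0, 1, 0, 1],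
     [0, 0, 1, 0, 1, 0, 0],
     [0, 0, 0, 1, 0, 1, 0],
     [0, 0, 0, 0, 1, 0, 1],
     [1, 1, 0, 1, 0, 0, 1, 0],
     [1, 0, 1, 1, 0, 1, 0, 0],
     [1, 0, 1, 0, 0, 1, 0, 1],
     [1, 0, 0, 1, 0, 1, 1, 0],
     [0, 1, 0, 1, 1, 0, 1, 0],
     [0, 1, 0, 0, 1, 0, 1, 1],
     [0, 0, 1, 0, 1, 1, 0, 1],
     [1, 1, 0, 1, 1, 0, 0, 0, 0],
     [1, 1, 0, 1, 0, 0, 0, 1, 1],
     [1, 1, 0, 0, 0, 1, 0, 1, 1],
     [1, 1, 0, 0, 0, 1, 0, 0, 1],
     [1, 1, 0, 0, 0, 0, 1, 0, 1],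
     [1, 0, 0, 1, 0, 0, 0, 1, 1],
     [0, 1, 0, 1, 1, 0, 1, 0, 0, 0],
     [0, 0, 0, 1, 0, 1, 1, 0, 1, 0],
     [1, 1, 0, 0, 1, 1, 0, 1, 0, 0, 0],
     [0, 1, 1, 0, 0, 1, 0, 0, 1, 1, 0]]

/-- The value of a word. -/
def evalP (l : List ℕ) : Perm (Fin 6) :=
  l.foldl (fun acc k => acc * if k = 0 then pc5 else pc3) 1

theorem cyc_words : ∀ a b c : Fin 6, a ≠ b → a ≠ c → b ≠ c →
    swap a b * swap a c ∈ cycWords.map evalP := by decide +kernel

theorem tau_odd : Perm.sign ptau = -1 := by decide +kernel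

theorem gens_even : Perm.sign pc3 = 1 ∧ Perm.sign pc5 = 1 ∧ Perm.sign pc3' = 1 := by decide +kernel

theorem alternating_le {H : Subgroup (Perm (Fin 6))} (h3 : pc3 ∈ H) (h5 : pc5 ∈ H) :
    alternatingGroup (Fin 6) ≤ H := by
  have hw : ∀ l : List ℕ, evalP l ∈ H := by
    intro l
    induction l using List.reverseRecOn with
    | nil => exact one_mem H
    | append_singleton l k ih =>
      rw [evalP, List.foldl_append, List.foldl_cons, List.foldl_nil]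
      refine mul_mem ih ?_
      split_ifs
      exacts [h5, h3]
  rw [← Perm.closure_three_cycles_eq_alternating, Subgroup.closure_le]
  intro σ hσ
  obtain ⟨a, b, c, hab, hac, hbc, rfl⟩ : ∃ a b c, a ≠ b ∧ a ≠ c ∧ b ≠ c ∧ σ = swap a b * swap a c := by
    obtain ⟨a, b, c, hab, hac, hbc, h⟩ := Finset.card_eq_three.1 (Perm.IsThreeCycle.card_support hσ)
    have key : ∀ π : Perm (Fin 6), π.support.card = 3 →
        ∃ a b c : Fin 6, a ≠ b ∧ a ≠ c ∧ b ≠ c ∧ π = swap a b * swap a c := by decide +kernel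
    exact key σ (Perm.IsThreeCycle.card_support hσ)
  obtain ⟨l, -, e⟩ := List.mem_map.1 (cyc_words a b c hab hac hbc)
  exact e ▸ hw l

theorem nine_le_alternating : nine ≤ alternatingGroup (Fin 6) := by
  have key : ∀ σ : Perm (Fin 6), pc3 * σ = σ * pc3 ∧ pc3' * σ = σ * pc3' →
      Perm.sign σ = 1 := by decide +kernel
  intro σ hσ
  exact Perm.mem_alternatingGroup.2 (key σ (mem_nine.1 hσ))

theorem central_nine_aux : ∀ σ : Perm (Fin 6), pc3 * σ = σ * pc3 ∧ pc3' * σ = σ * pc3' →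
    (∀ i : Fin 5, ∃ e : ZMod 3, ∀ j : Fin 6,
      (fun k : Fin 6 => if k = i.castSucc then (1 : ZMod 3) else if k = 5 then 2 else 0) (σ j) -
      (fun k : Fin 6 => if k = i.castSucc then (1 : ZMod 3) else if k = 5 then 2 else 0) j = e) →
    σ = 1 := by
  decide +kernel

end Cfsg.Agent.SU62Sub75
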