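import Cfsg.Agent.SU62Sub75.Check
import Cfsg.Agent.SU62Sub75.Perm6

/-!
Further kernel checks: monomial codes and orthogonal frames in three dimensions (helper75).
-/

set_option autoImplicit false

namespace Cfsg.Agent.SU62Sub75

open Cfsg.Agent.ChevCore Cfsg.Agent.CosetEnum

/-- The form on coded vectors. -/
def hermC (u v : ℕ) : ℕ := sum6 fun k => mulF (vc u k) (cjF (vc v k))

/-- An entry of the product of an adjoint with a vector. -/
def colC (A z a : ℕ) : ℕ := sum6 fun r => mulF (cjF (ent A r a)) (vc z r)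

/-- The adjoint carries the vector to a monomial one. -/
noncomputable def colB (A z : ℕ) : Bool :=
  forceNat (pack4 (colC A z) 6 0) fun c => kallUpTo 6 fun a => kallUpTo 6 fun b =>
    Nat.beq a b || Nat.beq (vc c a) 0 || Nat.beq (vc c b) 0

/-- The index of a representative. -/
def cidx : Bool → ℕ → ℕ → ℕ
  | true, i, j => 8 * i + 2 * j
  | false, i, j => 8 * j + 2 * i

/-- All representatives with the given block make the vector monomial. -/
noncomputable def okB (up : Bool) (i z : ℕ) : Bool :=
  kallUpTo 4 fun j => colB (candN (cidx up i j)) z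

/-- The four frames of each block. -/
noncomputable def frameB (up : Bool) (s : ℕ) : Bool :=
  kallUpTo 64 fun v => !Nat.beq (hermC (v * s) (v * s)) 1 ||
    ((kanyUpTo 4 fun i => okB up i (v * s)) &&
      kallUpTo 4 fun i => !okB up i (v * s) || kallUpTo 64 fun u =>
        !Nat.beq (hermC (u * s) (u * s)) 1 || !Nat.beq (hermC (u * s) (v * s)) 0 ||
          okB up i (u * s))

/-- The code of a permutation matrix times a diagonal one. -/
def monoC (π : Equiv.Perm (Fin 6)) (d : Fin 6 → ZMod 3) (i j : Fin 6) : ℕ :=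
  if i = π j then wc (d j).val else 0

theorem frameB_up : frameB true 1 = true := by decide +kernel

theorem frameB_down : frameB false 64 = true := by decide +kernel

theorem mono_small : ∀ i j : Fin 6,
    ent (smallN 0) i j = monoC 1 ![1, 2, 0, 0, 0, 0] i j ∧ ent (smallN 1) i j = monoC pc3 0 i j ∧
      ent (smallN 2) i j = monoC pc5 0 i j ∧ ent tauN i j = monoC ptau 0 i j ∧
      ∀ a : ZMod 3, ent (dgN a.val) i j = monoC 1 (Pi.single 0 a) i j := by decide +kernel

theorem tau_word : mulN tauN (mulN (smallN 3) tauN) = evalW smallTab 0 [4, 3, 0] := by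
  decide +kernel

theorem lt_small : ∀ k < 3, ∀ x ∈ (kget smallWord k (0, [])).2, x < 10 := by decide +kernel

theorem lt_back : ∀ k < 5, ∀ x ∈ (kget backWord k (0, [])).2, x < 8 := by decide +kernel

theorem lt_mem : ∀ e ∈ memWord, ∀ x ∈ e.2.2.2, x < 10 := by decide +kernel

theorem cases32 : ∀ k < 32, k < 2 ∨ (∃ e ∈ memWord, e.1 = k ∨ e.1 = k + 1 ∧ k % 2 = 0) ∨
    ∃ e ∈ badWord, e.1 = k := by decide +kernel

end Cfsg.Agent.SU62Sub75
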