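import Cfsg.Agent.U43Mult50.Cover

/-!
The five generators generate `SU_4(3)` (helper75, after helper50's covering argument).
-/

set_option autoImplicit false
set_option linter.unusedSectionVars false

namespace Cfsg.Agent.SU62Sub75.GenTop

open Matrix Cfsg.Agent.Unitary Cfsg.Agent.ChevCore Cfsg.Agent.CosetEnum Cfsg.Agent.U43Mult50

universe v

variable {F : Type v} [Field F] {ι : F} [Fintype F] (hF : Fintype.card F = 3 ^ 2) (hι : ι * ι = -1)
include hF hι

omit hι in
/-- All transvections at `x` lie in `H`. -/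
def Good (H : Subgroup (SU 4 F 3)) (x : Fin 4 → F) : Prop :=
  ∀ (c : F) (hu : herm 3 x x = 0) (hc : c + c ^ 3 = 0),
    tv hF hu hc ∈ H

theorem good_smul {x : Fin 4 → F} {H : Subgroup (SU 4 F 3)} (h : Good hF H x) {l : F} (hl : l ≠ 0) : Good hF H (l • x) := by
  intro c hu hc
  have hx : herm 3 x x = 0 := by
    rw [herm_smul_self hF] at hu
    exact (mul_eq_zero.1 hu).resolve_left (pow_ne_zero _ hl)
  have h8 : l ^ 8 = 1 := by
    have := FiniteField.pow_card_sub_one_eq_one l hl
    rwa [hF] at this
  have hc' : c * l ^ 4 + (c * l ^ 4) ^ 3 = 0 := by linear_combination l ^ 4 * hc + c ^ 3 * l ^ 4 * h8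
  have e : tv hF hu hc = tv hF hx hc' := by
    refine eq_of_smul_eq_SU fun y => ?_
    rw [tv_smul, tv_smul, herm_smul_right hF, smul_smul]
    congr 2
    ring
  rw [e]
  exact h _ _ _

theorem good_gen_smul {x : Fin 4 → F} {H : Subgroup (SU 4 F 3)} (h : Good hF H x) {g : SU 4 F 3}
    (hg : g ∈ H) : Good hF H (g • x) := by
  intro c hu hc
  have hx : herm 3 x x = 0 := by rwa [herm_smul_SU] at hu
  have := conj_tv hF g hx hc
  rw [← this]
  exact mul_mem (mul_mem hg (h _ _ _)) (inv_mem hg)

theorem good_rep {H : Subgroup (SU 4 F 3)}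
    (hH : ∀ k < 5, ∀ g : SU 4 F 3, IsGen ι k g → g ∈ H) : ∀ n, n < 280 → Good hF H (vecN ι (repN n)) := by
  intro n
  induction n using Nat.strong_induction_on with
  | _ n ih =>
    intro hn
    have ht := treeB_true
    simp only [treeB, kallUpTo_iff, forceNat_eq, Bool.or_eq_true, Bool.and_eq_true, Nat.beq_eq,
      Nat.blt_eq] at ht
    rcases ht n hn with rfl | ⟨⟨⟨⟨hp, hs⟩, hl⟩, hl9⟩, hv⟩
    · intro c hu hc
      obtain ⟨g, -, hgen, hsm⟩ := exists_lift_gen hF hι (k := 3) (by norm_num)
      obtain ⟨a, b, rfl⟩ := exists_coords hF hι c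
      have h3 := three_eq_zero hF
      have hi3 : ι ^ 3 = -ι := by linear_combination ι * hι
      have hch := charP_three hF
      have ha : (a : F) = 0 := by
        have e : ((a : F) + (b : F) * ι) ^ 3 = (a : F) - (b : F) * ι := by
          rw [add_pow_char, mul_pow, natCast_cube hF, natCast_cube hF, hi3]; ring
        rw [e] at hc
        linear_combination (-1 : F) * hc + (a : F) * h3
      have hu4 : ∀ i : Fin 4, val ι (genU 3 (4 + i)) = (0 : F) := by
        have : ∀ i : Fin 4, genU 3 (4 + i) = 0 := by decide +kernel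
        intro i; rw [this, val_zero]
      have hu0 : (fun i : Fin 4 => val ι (genU 3 i)) = vecN ι (repN 0) := by
        have : ∀ i : Fin 4, genU 3 i = digit (repN 0) i := by decide +kernel
        funext i; rw [this]; rfl
      have hb8 : val ι (genU 3 8) = ι := by
        rw [show genU 3 8 = 3 by decide +kernel, val_three]
      have hι0 : ι + ι ^ 3 = 0 := by rw [hi3, add_neg_cancel]
      have eg : g = tv hF hu hι0 := by
        refine eq_of_smul_eq_SU fun x => ?_
        rw [hsm, tv_smul, hu0, hb8, show (fun i : Fin 4 => val ι (genU 3 (4 + i))) = 0 from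
          funext hu4, herm_zero_right hF]
        simp
      have e : tv hF hu hc = g ^ b := by
        refine eq_of_smul_eq_SU fun x => ?_
        rw [eg, SuMult50.tv_pow_smul hF, tv_smul, ha, zero_add]
      rw [e]
      exact pow_mem (hH 3 (by norm_num) g hgen) b
    · obtain ⟨g, -, hgen, -⟩ := exists_lift_gen hF hι hs
      have hgood := good_gen_smul hF hι (ih _ hp (by omega)) (g := g) (hH _ hs g hgen)
      have he : vecN ι (repN n) =
          val ι (infoN n / 4096) • (g • vecN ι (repN (infoN n % 512))) := by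
        funext r
        simp only [vecN, (hv r r.isLt), val_cmul hF hι, Pi.smul_apply, smul_eq_mul]
        congr 1
        rw [val_csum hF hι]
        simp only [val_cmul hF hι]
        show _ = (mat g *ᵥ _) r
        rw [show mat g = matM ι _ from hgen]
        rfl
      rw [he]
      refine good_smul hF hι hgood fun e0 => ?_
      have := val_inj hF hι hl9 (by norm_num) (e0.trans val_zero.symm)
      omega

/-- The five generators generate. -/
theorem eq_top_of_gens {H : Subgroup (SU 4 F 3)}
    (hH : ∀ k < 5, ∀ g : SU 4 F 3, IsGen ι k g → g ∈ H) : H = ⊤ := by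
  rw [eq_top_iff, ← tvGroup_empty hF (n := 4) (by norm_num), tvGroup, Subgroup.closure_le]
  rintro _ ⟨u, c, hu, hc, -, rfl⟩
  by_cases hu0 : u = 0
  · subst hu0
    rw [show tv hF hu hc = 1 from eq_of_smul_eq_SU fun x => by simp [tv_smul]]
    exact one_mem _
  obtain ⟨v, hv, rfl⟩ := exists_vecN hF hι u
  have hcv := coverB_true
  simp only [coverB, kallUpTo_iff, forceNat_eq, Bool.or_eq_true, Bool.and_eq_true, Nat.beq_eq,
    Nat.blt_eq, Bool.not_eq_true', ← Bool.not_eq_true] at hcv
  rcases hcv v hv with (rfl | h0) | ⟨hn, hent⟩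
  · exact absurd (funext fun i => by simp [vecN, digit, val_zero]) hu0
  · refine absurd (val_inj hF hι (by unfold csum cadd; omega) (by norm_num) ?_) h0
    rw [← herm_val hF hι, val_zero]
    exact hu
  · have e : vecN ι v = val ι (idxN v % 16) • vecN ι (repN (idxN v / 16)) := by
      funext r
      simp only [vecN, hent r r.isLt, val_cmul hF hι, Pi.smul_apply, smul_eq_mul]
    refine (?_ : Good hF H (vecN ι v)) c hu hc
    rw [e]
    refine good_smul hF hι (good_rep hF hι hH _ hn) fun e0 => hu0 ?_
    rw [e, e0, zero_smul]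

end Cfsg.Agent.SU62Sub75.GenTop
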