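import Cfsg.Agent.SU62Sub75.Mono
import Cfsg.Agent.SU62Sub75.Check2

/-!
The centraliser of `t` consists of thirty-two cosets of the monomial group (helper75).
-/

set_option autoImplicit false
set_option linter.unusedSectionVars false

namespace Cfsg.Agent.SU62Sub75

open Matrix Equiv Cfsg.Agent.ChevCore Cfsg.Agent.CosetEnum

variable {F : Type} [Field F] [Fintype F] {w : F} (h : IsF4 w)

include h in
theorem val_hermC (u v : ℕ) :
    val w (hermC u v) = hermForm 6 F 2 (toV w u) (toV w v) := by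
  simp only [hermC, h.val_sum6, h.val_mulF, h.val_cjF]
  rfl

include h in
theorem toM_of_monoC {A : ℕ} {π : Perm (Fin 6)} {d : Fin 6 → ZMod 3}
    (hA : ∀ i j : Fin 6, ent A i j = monoC π d i j) : toM w A = monoM w π d := by
  ext i j
  show val w (ent A i j) = _
  rw [hA i j, monoC]
  simp only [monoM, Matrix.of_apply]
  split_ifs
  · rw [h.val_wc]; rfl
  · exact h.val_zero

include h in
theorem toM_tau : toM w tauN = monoM w ptau 0 :=
  toM_of_monoC h fun i j => (mono_small i j).2.2.2.1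

include h in
theorem exists_tau : ∃ τ : Cfsg.SU 6 F 2, mat6 τ = monoM w ptau 0 :=
  exists_mono h ptau (by simp)

include h in
theorem exists_candN {k : ℕ} (hk : k < 32) :
    ∃ c : Cfsg.SU 6 F 2, mat6 c = toM w (candN k) := by
  have hc := candB_true
  simp only [candB, kallUpTo_iff, Bool.and_eq_true, Bool.or_eq_true, Nat.beq_eq] at hc
  obtain ⟨⟨hu, h4⟩, hodd⟩ := hc k hk
  rcases Nat.mod_two_eq_zero_or_one k with e | e
  · exact h.exists_elt (h.det_of_pow hu (by norm_num) (h4.resolve_left (by omega)))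
      (h.unit_of_code hu)
  · obtain ⟨⟨hu', h4'⟩, -⟩ := hc (k - 1) (by omega)
    obtain ⟨c, ec⟩ := h.exists_elt (h.det_of_pow hu' (by norm_num) (h4'.resolve_left (by omega)))
      (h.unit_of_code hu')
    obtain ⟨τ, eτ⟩ := exists_tau h
    exact ⟨c * τ, by rw [mat6_mul, ec, eτ, hodd.resolve_left (by omega), h.toM_mulN, toM_tau h]⟩

include h in
theorem cand_succ {k : ℕ} (hk : k + 1 < 32) (he : k % 2 = 0) {c c' τ : Cfsg.SU 6 F 2}
    (ec : mat6 c = toM w (candN k)) (ec' : mat6 c' = toM w (candN (k + 1)))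
    (eτ : mat6 τ = monoM w ptau 0) : c' = c * τ ∧ c = c' * τ := by
  have hc := candB_true
  simp only [candB, kallUpTo_iff, Bool.and_eq_true, Bool.or_eq_true, Nat.beq_eq] at hc
  have e1 : c' = c * τ := mat6_inj (by
    rw [mat6_mul, ec, ec', eτ, ((hc (k + 1) hk).2.resolve_left (by omega)), h.toM_mulN, toM_tau h,
      Nat.add_sub_cancel])
  have hτ : τ * τ = 1 := mat6_inj (by
    rw [mat6_mul, eτ, monoM_mul h, mat6_one, ← monoM_one (w := w)]
    congr 1
    exact Equiv.swap_mul_self _ _)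
  exact ⟨e1, by rw [e1, mul_assoc, hτ, mul_one]⟩

include h in
theorem exists_code {o : ℕ} (ho : o = 0 ∨ o = 3) {x : Fin 6 → F}
    (hx : ∀ r : Fin 6, (r : ℕ) < o ∨ o + 3 ≤ r → x r = 0) :
    ∃ v < 64, toV w (v * 4 ^ o) = x := by
  obtain ⟨a, ha, ea⟩ := h.exists_val (x ⟨o, by omega⟩)
  obtain ⟨b, hb, eb⟩ := h.exists_val (x ⟨o + 1, by omega⟩)
  obtain ⟨c, hc, ec⟩ := h.exists_val (x ⟨o + 2, by omega⟩)
  refine ⟨a + 4 * b + 16 * c, by omega, funext fun r => ?_⟩
  have key : ∀ n : ℕ, vc ((a + 4 * b + 16 * c) * 4 ^ o) r = n → val w n = x r →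
      toV w ((a + 4 * b + 16 * c) * 4 ^ o) r = x r := fun n h1 h2 => by
    show val w (vc _ _) = _; rw [h1, h2]
  have hr := r.isLt
  have hcases : (r : ℕ) = o ∨ (r : ℕ) = o + 1 ∨ (r : ℕ) = o + 2 ∨ (r : ℕ) < o ∨ o + 3 ≤ r := by
    omega
  rcases hcases with e | e | e | e
  · refine key a ?_ (by rw [ea]; exact congrArg x (Fin.ext e.symm))
    rw [vc, Nat.shiftRight_eq_div_pow, e]
    rcases ho with rfl | rfl <;> norm_num <;> omega
  · refine key b ?_ (by rw [eb]; exact congrArg x (Fin.ext e.symm))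
    rw [vc, Nat.shiftRight_eq_div_pow, e]
    rcases ho with rfl | rfl <;> norm_num <;> omega
  · refine key c ?_ (by rw [ec]; exact congrArg x (Fin.ext e.symm))
    rw [vc, Nat.shiftRight_eq_div_pow, e]
    rcases ho with rfl | rfl <;> norm_num <;> omega
  · refine key 0 ?_ (by rw [hx r e, h.val_zero])
    rw [vc, Nat.shiftRight_eq_div_pow]
    rcases ho with rfl | rfl
    · have : (r : ℕ) = 3 ∨ (r : ℕ) = 4 ∨ (r : ℕ) = 5 := by omega
      rcases this with e' | e' | e' <;> rw [e'] <;> norm_num <;> omega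
    · have : (r : ℕ) = 0 ∨ (r : ℕ) = 1 ∨ (r : ℕ) = 2 := by omega
      rcases this with e' | e' | e' <;> rw [e'] <;> norm_num <;> omega

include h in
theorem colB_spec {A z : ℕ} (hA : colB A z = true) (a b : Fin 6)
    (ha : (adjM (toM w A) *ᵥ toV w z) a ≠ 0) (hb : (adjM (toM w A) *ᵥ toV w z) b ≠ 0) : a = b := by
  simp only [colB, forceNat_eq, kallUpTo_iff, Bool.or_eq_true, Nat.beq_eq] at hA
  have key : ∀ a : Fin 6, (adjM (toM w A) *ᵥ toV w z) a = val w (vc (pack4 (colC A z) 6 0) a) := by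
    intro a
    rw [vc, pack4_digit (f := colC A z) (fun n => sum6_lt _) a.isLt, Nat.zero_add, colC, h.val_sum6]
    simp only [h.val_mulF, h.val_cjF]
    rfl
  rw [key] at ha hb
  rcases hA a a.isLt b b.isLt with (e | e) | e
  · exact Fin.ext e
  · rw [e] at ha; exact absurd h.val_zero ha
  · rw [e] at hb; exact absurd h.val_zero hb

include h in
/-- A block of columns. -/
theorem block_frame {up : Bool} {o : ℕ} (ho : o = 0 ∨ o = 3) (hB : frameB up (4 ^ o) = true)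
    {g : Cfsg.SU 6 F 2}
    (hz : ∀ r j : Fin 6, (o ≤ (j : ℕ) ∧ (j : ℕ) < o + 3) → ((r : ℕ) < o ∨ o + 3 ≤ (r : ℕ)) →
      mat6 g r j = 0) :
    ∃ i < 4, ∀ i' < 4, ∀ j : Fin 6, o ≤ (j : ℕ) ∧ (j : ℕ) < o + 3 → ∀ a b : Fin 6,
      (adjM (toM w (candN (cidx up i i'))) * mat6 g) a j ≠ 0 →
      (adjM (toM w (candN (cidx up i i'))) * mat6 g) b j ≠ 0 → a = b := by
  have hcode : ∀ j : Fin 6, o ≤ (j : ℕ) ∧ (j : ℕ) < o + 3 →
      ∃ v < 64, toV w (v * 4 ^ o) = fun r => mat6 g r j :=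
    fun j hj => exists_code h ho fun r hr => hz r j hj hr
  choose! c hc1 hc2 using hcode
  have hherm : ∀ j j' : Fin 6, o ≤ (j : ℕ) ∧ (j : ℕ) < o + 3 → o ≤ (j' : ℕ) ∧ (j' : ℕ) < o + 3 →
      hermC (c j * 4 ^ o) (c j' * 4 ^ o) = if j' = j then 1 else 0 := by
    intro j j' hj hj'
    refine h.val_inj (sum6_lt _) (by split_ifs <;> norm_num) ?_
    rw [val_hermC h, hc2 j hj, hc2 j' hj']
    have := congrFun (congrFun (h.adj_mat6 g) j') j
    rw [h.herm_eq, Matrix.one_apply] at this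
    refine Eq.trans this ?_
    split_ifs
    · exact h.val_one.symm
    · exact h.val_zero.symm
  simp only [frameB, kallUpTo_iff, Bool.or_eq_true, Bool.and_eq_true, Bool.not_eq_true',
    ← Bool.not_eq_true, Nat.beq_eq, kanyUpTo_iff] at hB
  let j0 : Fin 6 := ⟨o, by omega⟩
  have hj0 : o ≤ (j0 : ℕ) ∧ (j0 : ℕ) < o + 3 := ⟨le_refl _, by show o < o + 3; omega⟩
  obtain ⟨⟨i, hi, hok⟩, hprop⟩ := (hB _ (hc1 j0 hj0)).resolve_left
    (fun hne => hne (by rw [hherm j0 j0 hj0 hj0, if_pos rfl]))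
  refine ⟨i, hi, fun i' hi' j hj a b => ?_⟩
  have hj' : okB up i (c j * 4 ^ o) = true := by
    by_cases e : j = j0
    · rw [e]; exact hok
    rcases (hprop i hi).resolve_left (fun hne => hne hok) _ (hc1 j hj) with (h1 | h1) | h1
    · exact absurd (by rw [hherm j j hj hj, if_pos rfl]) h1
    · exact absurd (by rw [hherm j j0 hj hj0, if_neg (Ne.symm e)]) h1
    · exact h1
  simp only [okB, kallUpTo_iff] at hj'
  have key := colB_spec h (hj' i' hi') a b
  rw [hc2 j hj] at key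
  exact key

include h in
/-- The centraliser of `t`. -/
theorem exists_cand {g : Cfsg.SU 6 F 2} {a e : ZMod 3} (ha : a ≠ 0)
    (hg : monoM w 1 (fun j => a * tvec j + e) * mat6 g =
      mat6 g * monoM w 1 fun j => a * tvec j + e) :
    ∃ k < 32, ∃ c : Cfsg.SU 6 F 2, mat6 c = toM w (candN k) ∧
      ∃ m ∈ Msub h, g = c * m := by
  have hzero : ∀ r j : Fin 6, tvec r ≠ tvec j → mat6 g r j = 0 := by
    intro r j hne
    have := congrFun (congrFun hg r) j
    rw [monoM_one_mul, mul_monoM_one, mul_comm] at this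
    by_contra hc
    have h2 : a * tvec r + e = a * tvec j + e := h.wz_inj (mul_left_cancel₀ hc this)
    have key : ∀ a : ZMod 3, a ≠ 0 → ∀ x y : ZMod 3, a * x = a * y → x = y := by decide
    exact hne (key a ha _ _ (add_right_cancel h2))
  have ht1 : ∀ r j : Fin 6, (0 ≤ (j : ℕ) ∧ (j : ℕ) < 0 + 3) → ((r : ℕ) < 0 ∨ 0 + 3 ≤ (r : ℕ)) →
      tvec r ≠ tvec j := by decide
  have ht2 : ∀ r j : Fin 6, (3 ≤ (j : ℕ) ∧ (j : ℕ) < 3 + 3) → ((r : ℕ) < 3 ∨ 3 + 3 ≤ (r : ℕ)) →
      tvec r ≠ tvec j := by decide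
  obtain ⟨i, hi, hup⟩ := block_frame h (up := true) (o := 0) (Or.inl rfl) (by simpa using frameB_up)
    fun r j hj hr => hzero r j (ht1 r j hj hr)
  obtain ⟨j, hj, hdn⟩ := block_frame h (up := false) (o := 3) (Or.inr rfl)
    (by simpa using frameB_down) fun r j hj hr => hzero r j (ht2 r j hj hr)
  have hk : 8 * i + 2 * j + 1 < 32 := by omega
  obtain ⟨c, ec⟩ := exists_candN h (k := 8 * i + 2 * j) (by omega)
  have hinv : mat6 c⁻¹ = adjM (mat6 c) := by
    have e1 := h.adj_mat6 c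
    have e2 : mat6 c * mat6 c⁻¹ = 1 := by rw [← mat6_mul, mul_inv_cancel, mat6_one]
    calc mat6 c⁻¹ = adjM (mat6 c) * mat6 c * mat6 c⁻¹ := by rw [e1, Matrix.one_mul]
      _ = _ := by rw [Matrix.mul_assoc, e2, Matrix.mul_one]
  have hcols : ∀ r r' l, mat6 (c⁻¹ * g) r l ≠ 0 → mat6 (c⁻¹ * g) r' l ≠ 0 → r = r' := by
    intro r r' l
    rw [mat6_mul, hinv, ec]
    by_cases hl : (l : ℕ) < 3
    · exact hup j hj l ⟨Nat.zero_le _, by omega⟩ r r'
    · exact hdn i hi l ⟨by omega, by omega⟩ r r'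
  obtain ⟨π, -, d, em⟩ := mem_mono_of_cols h hcols
  rcases Int.units_eq_one_or (Perm.sign π) with hs | hs
  · exact ⟨_, by omega, c, ec, c⁻¹ * g, ⟨π, Perm.mem_alternatingGroup.2 hs, d, em⟩,
      (mul_inv_cancel_left c g).symm⟩
  · obtain ⟨τ, eτ⟩ := exists_tau h
    obtain ⟨c', ec'⟩ := exists_candN h hk
    obtain ⟨e1, e2⟩ := cand_succ h hk (by omega) ec ec' eτ
    refine ⟨_, hk, c', ec', τ * (c⁻¹ * g),
      ⟨ptau * π, Perm.mem_alternatingGroup.2 (by rw [map_mul, tau_odd, hs, neg_mul_neg, one_mul]), _,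
        by rw [mat6_mul, eτ, em, monoM_mul h]⟩, ?_⟩
    rw [← mul_assoc, ← e2, mul_inv_cancel_left]

end Cfsg.Agent.SU62Sub75
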