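import Cfsg.Agent.SU62Sub75.Unit
import Cfsg.Agent.SU62Sub75.GenTop
import Cfsg.Agent.U43Mult50.Cover

/-!
The image of `SU_4(3)` in `SU_6(2)` modulo scalars (helper75).
-/

set_option autoImplicit false
set_option linter.unusedSectionVars false

namespace Cfsg.Agent.SU62Sub75

open Matrix Cfsg.Agent.ChevCore Cfsg.Agent.CosetEnum
open U43Mult50 (Pt Compat Hv sh)

variable {F : Type} [Field F] [Fintype F] {w : F}

/-- A scaled root. -/
def root (w : F) (a : Pt) : Fin 6 → F := wz w a.2 • toV w (rootN a.1)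

/-- The value of an inner product. -/
def hval (w : F) : Option (ZMod 3) → F
  | none => 0
  | some e => wz w (e + 2)

namespace IsF4

variable (h : IsF4 w)
include h

theorem root_shift (i : Fin 126) (k e : ZMod 3) : root w (i, k + e) = wz w e • root w (i, k) := by
  simp only [root, smul_smul]
  rw [h.wz_add, mul_comm]

theorem herm_root (a b : Pt) : hermForm 6 F 2 (root w a) (root w b) = hval w (Hv a b) := by
  have hg := gramB_true
  simp only [gramB, kallUpTo_iff, forceNat_eq, Nat.beq_eq] at hg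
  have hij := congrArg (val w) (hg a.1 a.1.isLt b.1 b.1.isLt)
  simp only [h.val_sum6, h.val_mulF, h.val_cjF] at hij
  have e : hermForm 6 F 2 (root w a) (root w b) =
      wz w a.2 * wz w (-b.2) * val w (U43Mult50.tN a.1 b.1) := by
    rw [← hij, Finset.mul_sum, hermForm]
    refine Finset.sum_congr rfl fun k _ => ?_
    simp only [root, Pi.smul_apply, smul_eq_mul, toV, mul_pow, h.wz_sq]
    ring
  rw [e]
  by_cases ht : U43Mult50.tN a.1 b.1 = 0
  · rw [Hv, if_pos ht, ht]
    simp [hval, h.val_zero]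
  · have hlt : U43Mult50.tN a.1 b.1 < 4 := Nat.mod_lt _ (by norm_num)
    have key : ∀ t < 4, t ≠ 0 → val w t = wz w ((t : ZMod 3) + 2) := by
      intro t ht4 ht0
      have hv : ((t : ZMod 3) + 2).val = t - 1 := by
        interval_cases t <;> first | exact absurd rfl ht0 | rfl
      rw [wz, hv, ← h.val_wc]
      congr 1
      unfold wc
      omega
    rw [Hv, if_neg ht, hval, key _ hlt ht, ← h.wz_add, ← h.wz_add]
    congr 1
    ring

/-- A vector orthogonal to everything is zero. -/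
theorem eq_zero_of_herm {y : Fin 6 → F} (hy : ∀ x, hermForm 6 F 2 y x = 0) : y = 0 := by
  funext i
  have := hy (Pi.single i 1)
  simpa [hermForm, Pi.single_apply] using this

end IsF4

/-- The first six roots. -/
def bpt (b : Fin 6) : Pt := (⟨b, by omega⟩, 0)

/-- The matrix carries the roots as the permutation does. -/
def Moves (w : F) (M : Matrix (Fin 6) (Fin 6) F) (p : Equiv.Perm Pt) : Prop :=
  ∀ a, M *ᵥ root w a = root w (p a)

variable {F9 : Type} [Field F9] [Fintype F9] {ι : F9}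

/-- The matrix lies over the element. -/
def Rel (w : F) (ι : F9) (g : Cfsg.SU 4 F9 3) (M : Matrix (Fin 6) (Fin 6) F) : Prop :=
  ∃ p, Compat ι (U43Mult50.mat g) p ∧ Moves w M p

theorem rel_one : Rel w ι (1 : Cfsg.SU 4 F9 3) 1 :=
  ⟨1, by rw [U43Mult50.mat_one]; exact U43Mult50.compat_one, fun a => Matrix.one_mulVec _⟩

theorem rel_mul {g g' : Cfsg.SU 4 F9 3} {M M' : Matrix (Fin 6) (Fin 6) F} (hg : Rel w ι g M)
    (hg' : Rel w ι g' M') : Rel w ι (g * g') (M * M') := by
  obtain ⟨p, hp, hM⟩ := hg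
  obtain ⟨p', hp', hM'⟩ := hg'
  refine ⟨p * p', by rw [U43Mult50.mat_mul]; exact U43Mult50.compat_mul hp hp', fun a => ?_⟩
  rw [← Matrix.mulVec_mulVec, hM', hM]
  rfl

variable (h : IsF4 w) (hF : Fintype.card F9 = 3 ^ 2) (hι : ι * ι = -1)

include h in
theorem base_col (b : Fin 6) : (fun i => toM w baseN i b) = root w (bpt b) := by
  have hb := baseB_true
  simp only [baseB, Bool.and_eq_true, Nat.beq_eq, kallUpTo_iff] at hb
  funext i
  show val w (ent baseN i b) = wz w 0 * val w (vc (rootN b) i)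
  rw [hb.2 i i.isLt b b.isLt, IsF4.wz_zero, one_mul]

include h in
theorem base_inv : toM w baseN * toM w binvN = 1 ∧ toM w binvN * toM w baseN = 1 := by
  have hb := baseB_true
  simp only [baseB, Bool.and_eq_true, Nat.beq_eq, kallUpTo_iff] at hb
  exact ⟨by rw [← h.toM_mulN, hb.1.1, h.toM_one], by rw [← h.toM_mulN, hb.1.2, h.toM_one]⟩

include h in
/-- A matrix preserving the form and moving six roots moves all. -/
theorem moves_of_base {M : Matrix (Fin 6) (Fin 6) F} {p : Equiv.Perm Pt}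
    (hM : adjM M * M = 1) (hp : ∀ a b, Hv (p a) (p b) = Hv a b)
    (hb : ∀ b, M *ᵥ root w (bpt b) = root w (p (bpt b))) : Moves w M p := by
  have hpres := (h.preserves_iff M).2 hM
  intro a
  have hy : ∀ b, hermForm 6 F 2 (M *ᵥ root w a - root w (p a)) (root w (p (bpt b))) = 0 := by
    intro b
    refine (Unitary.herm_sub_left _ _ _).trans ?_
    show hermForm 6 F 2 _ _ - hermForm 6 F 2 _ _ = 0
    rw [h.herm_root, hp, ← h.herm_root, ← hb, hpres, sub_self]
  refine sub_eq_zero.1 (h.eq_zero_of_herm fun x => ?_)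
  have hx : x = M *ᵥ (toM w baseN *ᵥ (toM w binvN *ᵥ (adjM M *ᵥ x))) := by
    rw [Matrix.mulVec_mulVec _ (toM w baseN), (base_inv h).1, Matrix.one_mulVec,
      Matrix.mulVec_mulVec, mul_eq_one_comm.1 hM, Matrix.one_mulVec]
  have hlin : ∀ c : Fin 6 → F, M *ᵥ (toM w baseN *ᵥ c) = ∑ b, c b • root w (p (bpt b)) := by
    intro c
    rw [show toM w baseN *ᵥ c = ∑ b, c b • root w (bpt b) by
      funext i
      simp only [Matrix.mulVec, dotProduct, Finset.sum_apply, Pi.smul_apply, smul_eq_mul]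
      exact Finset.sum_congr rfl fun b _ => by rw [← base_col h b]; ring]
    rw [Matrix.mulVec_sum]
    exact Finset.sum_congr rfl fun b _ => by rw [Matrix.mulVec_smul, hb]
  rw [hx, hlin]
  have hsum : ∀ (s : Finset (Fin 6)) (c : Fin 6 → F),
      hermForm 6 F 2 (M *ᵥ root w a - root w (p a)) (∑ b ∈ s, c b • root w (p (bpt b))) = 0 := by
    intro s c
    induction s using Finset.induction_on with
    | empty => simp [hermForm]
    | insert b s hbs ih =>
      rw [Finset.sum_insert hbs]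
      refine (Unitary.herm_add_right (q := 2) h.card _ _ _).trans ?_
      rw [Unitary.herm_smul_right (q := 2) h.card]
      show c b ^ 2 * hermForm 6 F 2 _ _ + hermForm 6 F 2 _ _ = 0
      rw [hy, ih, mul_zero, add_zero]
  exact hsum _ _

include h hF hι in
theorem exists_rel (g : Cfsg.SU 4 F9 3) :
    ∃ M : Matrix (Fin 6) (Fin 6) F, adjM M * M = 1 ∧ Rel w ι g M := by
  obtain ⟨x, hx, hxg⟩ : g ∈ (U43Mult50.cov hF hι).map (MonoidHom.fst _ _) := by
    rw [U43Mult50.fst_cov]; trivial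
  obtain ⟨g', p, p'⟩ := x
  simp only [MonoidHom.coe_fst] at hxg
  subst hxg
  have hp : Compat ι (U43Mult50.mat g') p := hx.1
  let W : Matrix (Fin 6) (Fin 6) F := Matrix.of fun i b => root w (p (bpt b)) i
  have hWW : adjM W * W = adjM (toM w baseN) * toM w baseN := by
    ext i j
    rw [h.herm_eq, h.herm_eq, base_col h i, base_col h j]
    show hermForm 6 F 2 (root w (p (bpt j))) (root w (p (bpt i))) = _
    rw [h.herm_root, hp.2.1, ← h.herm_root]
  have hM : adjM (W * toM w binvN) * (W * toM w binvN) = 1 := by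
    rw [h.adjM_mul, Matrix.mul_assoc, ← Matrix.mul_assoc (adjM W), hWW, ← Matrix.mul_assoc,
      ← Matrix.mul_assoc, ← h.adjM_mul, Matrix.mul_assoc, (base_inv h).1, h.adjM_one,
      Matrix.one_mul]
  refine ⟨_, hM, p, hp, moves_of_base h hM hp.2.1 fun b => ?_⟩
  have hW : W * toM w binvN * toM w baseN = W := by
    rw [Matrix.mul_assoc, (base_inv h).2, Matrix.mul_one]
  rw [← base_col h b, show (fun i => toM w baseN i b) = toM w baseN *ᵥ Pi.single b 1 by
    rw [Matrix.mulVec_single_one]; rfl, Matrix.mulVec_mulVec, hW, Matrix.mulVec_single_one]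
  rfl

include h in
theorem rel_scalar (e : ZMod 3) : Rel w ι (1 : Cfsg.SU 4 F9 3) (wz w e • 1) := by
  refine ⟨sh e, ?_, fun a => ?_⟩
  · rw [U43Mult50.mat_one]
    refine ⟨fun a => ?_, fun a b => ?_, fun a => ⟨1, one_ne_zero, by simp [U43Mult50.sh_apply]⟩⟩
    · simp only [U43Mult50.sh_apply, add_right_comm]
    · simp only [Hv, U43Mult50.sh_apply]
      by_cases ht : U43Mult50.tN a.1 b.1 = 0
      · exact (if_pos ht).trans (if_pos ht).symm
      · refine (if_neg ht).trans (Eq.trans ?_ (if_neg ht).symm)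
        congr 1
        ring
  · rw [Matrix.smul_mulVec, Matrix.one_mulVec, U43Mult50.sh_apply, h.root_shift]

include h hF hι in
theorem scalar_of_rel_one {M : Matrix (Fin 6) (Fin 6) F} (hM : Rel w ι (1 : Cfsg.SU 4 F9 3) M) :
    ∃ e, M = wz w e • (1 : Matrix (Fin 6) (Fin 6) F) := by
  obtain ⟨p, hp, hMv⟩ := hM
  rw [U43Mult50.mat_one] at hp
  obtain ⟨e, rfl⟩ := U43Mult50.compat_one_eq hF hι hp
  refine ⟨e, ?_⟩
  have : M * toM w baseN = wz w e • toM w baseN := by
    refine Matrix.ext_of_mulVec_single fun b => ?_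
    rw [← Matrix.mulVec_mulVec, Matrix.smul_mulVec]
    have hc : toM w baseN *ᵥ Pi.single b 1 = root w (bpt b) := by
      rw [Matrix.mulVec_single_one]; exact base_col h b
    rw [hc, hMv, U43Mult50.sh_apply, h.root_shift]
  calc M = M * toM w baseN * toM w binvN := by
        rw [Matrix.mul_assoc, (base_inv h).1, Matrix.mul_one]
    _ = _ := by rw [this, Matrix.smul_mul, (base_inv h).1]

include h hF hι in
theorem rel_unique {g : Cfsg.SU 4 F9 3} {M M' : Matrix (Fin 6) (Fin 6) F} (hM : Rel w ι g M)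
    (hM' : Rel w ι g M') : ∃ e, M' = wz w e • M := by
  obtain ⟨N, -, hN⟩ := exists_rel h hF hι g⁻¹
  have h1 := rel_mul hN hM
  have h2 := rel_mul hN hM'
  rw [inv_mul_cancel] at h1 h2
  obtain ⟨a, ha⟩ := scalar_of_rel_one h hF hι h1
  obtain ⟨b, hb⟩ := scalar_of_rel_one h hF hι h2
  have hMN : M * (wz w (-a) • N) = 1 := by
    refine mul_eq_one_comm.1 ?_
    rw [Matrix.smul_mul, ha, smul_smul, ← h.wz_add, neg_add_cancel, IsF4.wz_zero, one_smul]
  refine ⟨b - a, ?_⟩
  calc M' = M * (wz w (-a) • N) * M' := by rw [hMN, Matrix.one_mul]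
    _ = M * (wz w (-a) • (wz w b • 1)) := by
      rw [Matrix.mul_assoc, Matrix.smul_mul, hb]
    _ = _ := by
      rw [smul_smul, ← h.wz_add, Matrix.mul_smul, Matrix.mul_one, show -a + b = b - a by ring]

include h in
theorem det_smul_wz (e : ZMod 3) (M : Matrix (Fin 6) (Fin 6) F) :
    (wz w e • M).det = M.det := by
  rw [Matrix.det_smul, Fintype.card_fin, wz, ← pow_mul, mul_comm e.val, pow_mul,
    show w ^ 6 = 1 by rw [show (6 : ℕ) = 3 * 2 by rfl, pow_mul, h.cube, one_pow], one_pow, one_mul]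

include h hF hι in
theorem det_of_rel {g : Cfsg.SU 4 F9 3} {M : Matrix (Fin 6) (Fin 6) F} (hM : Rel w ι g M) :
    M.det = 1 := by
  choose f _ hf using exists_rel (ι := ι) h hF hι
  have hdet : ∀ {g : Cfsg.SU 4 F9 3} {M}, Rel w ι g M → M.det = (f g).det := by
    intro g M hM
    obtain ⟨e, rfl⟩ := rel_unique h hF hι (hf g) hM
    exact det_smul_wz h e _
  let D : Cfsg.SU 4 F9 3 →* F :=
    { toFun := fun g => (f g).det
      map_one' := by rw [← hdet rel_one, Matrix.det_one]
      map_mul' := fun g g' => by rw [← hdet (rel_mul (hf g) (hf g')), Matrix.det_mul] }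
  have hker : D.toHomUnits.ker = ⊤ := by
    rw [eq_top_iff, ← U43Mult50.perfect_SU hF]
    exact Abelianization.commutator_subset_ker _
  have : D.toHomUnits g = 1 := by
    rw [← MonoidHom.mem_ker, hker]; trivial
  rw [hdet hM]
  exact congrArg Units.val this

include h hF hι in
theorem exists_rel_elt (g : Cfsg.SU 4 F9 3) : ∃ a : Cfsg.SU 6 F 2, Rel w ι g (mat6 a) := by
  obtain ⟨M, hM, hrel⟩ := exists_rel h hF hι g
  obtain ⟨a, ha⟩ := h.exists_elt (det_of_rel h hF hι hrel) hM
  exact ⟨a, ha ▸ hrel⟩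

/-- The pairs. -/
def pairs (w : F) (ι : F9) : Subgroup (Cfsg.SU 4 F9 3 × Cfsg.SU 6 F 2) where
  carrier := {x | Rel w ι x.1 (mat6 x.2)}
  one_mem' := rel_one
  mul_mem' hx hy := rel_mul hx hy
  inv_mem' := by
    intro x hx
    have hpow : ∀ n : ℕ, Rel w ι (x ^ n).1 (mat6 (x ^ n).2) := by
      intro n
      induction n with
      | zero => exact rel_one
      | succ n ih => rw [pow_succ]; exact rel_mul ih hx
    have e : x⁻¹ = x ^ (orderOf x - 1) := inv_eq_of_mul_eq_one_right (by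
      rw [← pow_succ', Nat.sub_add_cancel (orderOf_pos x), pow_orderOf_eq_one])
    rw [e]
    exact hpow _

/-- The subgroup `3.U_4(3)`. -/
def imageK (w : F) (ι : F9) : Subgroup (Cfsg.SU 6 F 2) :=
  (pairs w ι).map (MonoidHom.snd _ _)

theorem mem_imageK {a : Cfsg.SU 6 F 2} : a ∈ imageK w ι ↔ ∃ g, Rel w ι g (mat6 a) :=
  ⟨fun ⟨x, hx, e⟩ => ⟨x.1, by rw [← e]; exact hx⟩, fun ⟨g, hg⟩ => ⟨(g, a), hg, rfl⟩⟩

include h hF hι in
theorem rel_gen {k : ℕ} (hk : k < 5) {g : Cfsg.SU 4 F9 3} (hg : U43Mult50.IsGen ι k g) :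
    Rel w ι g (toM w (genN k)) := by
  refine ⟨U43Mult50.permP ⟨k, by omega⟩, ?_, fun a => ?_⟩
  · rw [show U43Mult50.mat g = U43Mult50.matM ι k from hg]
    exact U43Mult50.compat_gen hF hι ⟨k, by omega⟩
  · have hact := actB_true
    simp only [actB, kallUpTo_iff, forceNat_eq, Nat.beq_eq] at hact
    obtain ⟨h1, h2⟩ := U43Mult50.permP_apply ⟨k, by omega⟩ a
    simp only [root, h1, h2, Matrix.mulVec_smul]
    funext r
    have e := congrArg (val w) (hact k hk a.1 a.1.isLt r r.isLt)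
    simp only [h.val_sum6, h.val_mulF, h.val_wc] at e
    simp only [Pi.smul_apply, smul_eq_mul, Matrix.mulVec, dotProduct]
    show wz w a.2 * ∑ j : Fin 6, val w (ent (genN k) r j) * val w (vc (rootN (a.1 : ℕ)) j) = _
    rw [e, h.wz_add]
    have : w ^ U43Mult50.cN k a.1 = wz w (U43Mult50.cN k a.1 : ZMod 3) := by
      rw [wz, ZMod.val_natCast]
      conv_lhs => rw [← Nat.mod_add_div (U43Mult50.cN k a.1) 3, pow_add, pow_mul, h.cube,
        one_pow, mul_one]
    rw [this]
    simp only [toV]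
    ring

include h hF hι in
theorem exists_gen_elt {k : ℕ} (hk : k < 5) :
    ∃ a ∈ imageK w ι, mat6 a = toM w (genN k) := by
  obtain ⟨g, hg, -⟩ := U43Mult50.exists_gen hF hι hk
  obtain ⟨a, ha⟩ := exists_rel_elt (w := w) h hF hι g
  obtain ⟨e, he⟩ := rel_unique h hF hι ha (rel_gen h hF hι hk hg)
  obtain ⟨z, hz⟩ := exists_rel_elt (w := w) h hF hι (1 : Cfsg.SU 4 F9 3)
  have hs : adjM (wz w e • (1 : Matrix (Fin 6) (Fin 6) F)) * (wz w e • 1) = 1 := by
    ext i j
    rw [h.herm_eq, Matrix.one_apply]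
    simp only [Unitary.herm, Cfsg.hermForm, Matrix.smul_apply, Matrix.one_apply, smul_eq_mul,
      mul_ite, mul_one, mul_zero, ite_pow, ite_mul, zero_mul, ne_eq, OfNat.ofNat_ne_zero,
      not_false_eq_true, zero_pow]
    rw [Finset.sum_ite_eq' Finset.univ i, if_pos (Finset.mem_univ _), h.wz_sq, ← h.wz_add,
      add_neg_cancel, IsF4.wz_zero]
  obtain ⟨s, hs'⟩ := h.exists_elt (by rw [det_smul_wz h, Matrix.det_one]) hs
  refine ⟨s * a, mem_imageK.2 ⟨1 * g, ?_⟩, ?_⟩
  · rw [mat6_mul, hs']; exact rel_mul (rel_scalar h e) ha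
  · rw [mat6_mul, hs', Matrix.smul_mul, Matrix.one_mul, he]

end Cfsg.Agent.SU62Sub75
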