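import Cfsg.Agent.SU62Sub75.Unit
import Cfsg.Agent.SU62Sub75.Perm6

/-!
Monomial elements of `SU_6(2)` and the Sylow 3-subgroup modulo scalars (helper75).
-/

set_option autoImplicit false
set_option linter.unusedSectionVars false

namespace Cfsg.Agent.SU62Sub75

open Matrix Equiv Cfsg.Agent.ChevCore Cfsg.Agent.CosetEnum

variable {F : Type} [Field F] [Fintype F] {w : F}

/-- A monomial matrix. -/
def monoM (w : F) (π : Perm (Fin 6)) (d : Fin 6 → ZMod 3) : Matrix (Fin 6) (Fin 6) F :=
  Matrix.of fun i j => if i = π j then wz w (d j) else 0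

variable (h : IsF4 w)

theorem monoM_one : monoM w 1 0 = 1 := by
  ext i j
  simp [monoM, Matrix.one_apply, IsF4.wz_zero]

include h in
theorem monoM_mul (π σ : Perm (Fin 6)) (d d' : Fin 6 → ZMod 3) :
    monoM w π d * monoM w σ d' = monoM w (π * σ) fun j => d (σ j) + d' j := by
  ext i j
  simp [monoM, Matrix.mul_apply, Perm.mul_apply, h.wz_add]

include h in
theorem monoM_inj {π σ : Perm (Fin 6)} {d d' : Fin 6 → ZMod 3} (e : monoM w π d = monoM w σ d') :
    π = σ ∧ d = d' := by
  have key : ∀ j, π j = σ j ∧ d j = d' j := by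
    intro j
    have := congrFun (congrFun e (π j)) j
    simp only [monoM, Matrix.of_apply, if_pos rfl] at this
    by_cases hj : π j = σ j
    · rw [if_pos hj] at this; exact ⟨hj, h.wz_inj this⟩
    · rw [if_neg hj] at this; exact absurd this (h.wz_ne_zero _)
  exact ⟨Equiv.ext fun j => (key j).1, funext fun j => (key j).2⟩

include h in
theorem smul_monoM (e : ZMod 3) (π : Perm (Fin 6)) (d : Fin 6 → ZMod 3) :
    wz w e • monoM w π d = monoM w π fun j => d j + e := by
  ext i j
  simp only [monoM, Matrix.smul_apply, Matrix.of_apply, smul_eq_mul, mul_ite, mul_zero]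
  split_ifs
  · rw [← h.wz_add, add_comm]
  · rfl

theorem monoM_one_mul (d : Fin 6 → ZMod 3) (M : Matrix (Fin 6) (Fin 6) F) (a j : Fin 6) :
    (monoM w 1 d * M) a j = wz w (d a) * M a j := by
  rw [Matrix.mul_apply, Finset.sum_eq_single a]
  · simp [monoM]
  · intro b _ hb
    simp [monoM, Ne.symm hb]
  · simp

theorem mul_monoM_one (d : Fin 6 → ZMod 3) (M : Matrix (Fin 6) (Fin 6) F) (a j : Fin 6) :
    (M * monoM w 1 d) a j = M a j * wz w (d j) := by
  rw [Matrix.mul_apply, Finset.sum_eq_single j]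
  · simp [monoM]
  · intro b _ hb
    simp [monoM, hb]
  · simp

include h in
theorem adj_monoM (π : Perm (Fin 6)) (d : Fin 6 → ZMod 3) :
    adjM (monoM w π d) * monoM w π d = 1 := by
  ext i j
  rw [h.herm_eq, Matrix.one_apply]
  simp only [Unitary.herm, Cfsg.hermForm, monoM, Matrix.of_apply, ite_pow,
    zero_pow two_ne_zero, ite_mul, zero_mul]
  rw [Finset.sum_ite_eq' Finset.univ (π j), if_pos (Finset.mem_univ _)]
  by_cases hij : i = j
  · subst hij
    rw [if_pos rfl, if_pos rfl, h.wz_sq, ← h.wz_add, add_neg_cancel, IsF4.wz_zero]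
  · rw [if_neg (fun e => hij (π.injective e).symm), if_neg hij, mul_zero]

include h in
theorem wz_sum {ι : Type} (s : Finset ι) (d : ι → ZMod 3) :
    ∏ j ∈ s, wz w (d j) = wz w (∑ j ∈ s, d j) := by
  classical
  induction s using Finset.induction_on with
  | empty => simp [IsF4.wz_zero]
  | insert a s ha ih => rw [Finset.prod_insert ha, Finset.sum_insert ha, h.wz_add, ih]

include h in
theorem det_monoM (π : Perm (Fin 6)) (d : Fin 6 → ZMod 3) :
    (monoM w π d).det = wz w (∑ j, d j) := by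
  rw [show monoM w π d = monoM w π 0 * monoM w 1 d by rw [monoM_mul h]; simp]
  rw [Matrix.det_mul]
  have h1 : monoM w π 0 = (π⁻¹).permMatrix F := by
    ext i j
    simp [monoM, IsF4.wz_zero, Equiv.Perm.permMatrix, PEquiv.toMatrix_apply, Equiv.toPEquiv_apply,
      Equiv.eq_symm_apply, eq_comm]
  have h2 : monoM w 1 d = Matrix.diagonal fun j => wz w (d j) := by
    ext i j
    by_cases hij : i = j
    · subst hij; simp [monoM]
    · simp [monoM, hij]
  rw [h1, Matrix.det_permutation, h2, Matrix.det_diagonal, wz_sum h]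
  have hs : ((Perm.sign π⁻¹ : ℤˣ) : F) = 1 := by
    rcases Int.units_eq_one_or (Perm.sign π⁻¹) with e | e <;> rw [e]
    · simp
    · have := h.two
      push_cast
      linear_combination -this
  rw [hs, one_mul]

include h in
theorem exists_mono (π : Perm (Fin 6)) {d : Fin 6 → ZMod 3} (hd : ∑ j, d j = 0) :
    ∃ g : Cfsg.SU 6 F 2, mat6 g = monoM w π d :=
  h.exists_elt (by rw [det_monoM h, hd, IsF4.wz_zero]) (adj_monoM h π d)

include h in
theorem sum_of_mat {g : Cfsg.SU 6 F 2} {π : Perm (Fin 6)} {d : Fin 6 → ZMod 3}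
    (e : mat6 g = monoM w π d) : ∑ j, d j = 0 := by
  have := mat6_det g
  rw [e, det_monoM h, ← IsF4.wz_zero (w := w)] at this
  exact h.wz_inj this

include h in
/-- The monomial elements with permutation in `H`. -/
def monoSub (H : Subgroup (Perm (Fin 6))) : Subgroup (Cfsg.SU 6 F 2) where
  carrier := {g | ∃ π ∈ H, ∃ d, mat6 g = monoM w π d}
  one_mem' := ⟨1, one_mem H, 0, by rw [mat6_one, monoM_one]⟩
  mul_mem' := by
    rintro a b ⟨π, hπ, d, ea⟩ ⟨σ, hσ, d', eb⟩
    exact ⟨π * σ, mul_mem hπ hσ, _, by rw [mat6_mul, ea, eb, monoM_mul h]⟩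
  inv_mem' := by
    rintro g ⟨π, hπ, d, e⟩
    obtain ⟨g', e'⟩ := exists_mono h π⁻¹ (d := fun j => -d (π⁻¹ j)) (by
      rw [Finset.sum_neg_distrib, Equiv.sum_comp π⁻¹ d, sum_of_mat h e, neg_zero])
    refine ⟨π⁻¹, inv_mem hπ, fun j => -d (π⁻¹ j), ?_⟩
    rw [show g⁻¹ = g' from inv_eq_of_mul_eq_one_right (mat6_inj ?_), e']
    rw [mat6_mul, e, e', monoM_mul h, mul_inv_cancel, mat6_one, ← monoM_one (w := w)]
    congr 1
    funext j
    simp

theorem mem_monoSub {H : Subgroup (Perm (Fin 6))} {g : Cfsg.SU 6 F 2} :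
    g ∈ monoSub h H ↔ ∃ π ∈ H, ∃ d, mat6 g = monoM w π d := Iff.rfl

theorem monoSub_mono {H H' : Subgroup (Perm (Fin 6))} (hH : H ≤ H') : monoSub h H ≤ monoSub h H' :=
  fun _ ⟨π, hπ, d, e⟩ => ⟨π, hH hπ, d, e⟩

include h in
theorem card_monoSub (H : Subgroup (Perm (Fin 6))) :
    Nat.card (monoSub h H) = 243 * Nat.card H := by
  choose f hf using fun (x : H × Dv) => exists_mono h (x.1 : Perm (Fin 6)) x.2.2
  let Φ : H × Dv → monoSub h H := fun x => ⟨f x, _, x.1.2, _, hf x⟩
  have hΦ : Function.Bijective Φ := by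
    constructor
    · intro x y e
      have e' := congrArg (fun z : monoSub h H => mat6 z.1) e
      simp only [Φ, hf] at e'
      obtain ⟨h1, h2⟩ := monoM_inj h e'
      exact Prod.ext (Subtype.ext h1) (Subtype.ext h2)
    · rintro ⟨g, π, hπ, d, e⟩
      exact ⟨(⟨π, hπ⟩, ⟨d, sum_of_mat h e⟩), Subtype.ext (mat6_inj ((hf _).trans e.symm))⟩
  rw [← Nat.card_congr (Equiv.ofBijective Φ hΦ), Nat.card_prod,
    Nat.card_eq_fintype_card (α := Dv), card_Dv, mul_comm]

/-- The scalars. -/
def scalars (w : F) : Subgroup (Cfsg.SU 6 F 2) where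
  carrier := {g | ∀ x, g * x = x * g ∧ ∃ c : F, mat6 g = c • 1}
  one_mem' := fun x => ⟨by rw [one_mul, mul_one], 1, by rw [mat6_one, one_smul]⟩
  mul_mem' := by
    intro a b ha hb x
    obtain ⟨c, ec⟩ := (ha 1).2
    obtain ⟨c', ec'⟩ := (hb 1).2
    refine ⟨by rw [mul_assoc, (hb x).1, ← mul_assoc, (ha x).1, mul_assoc], c * c', ?_⟩
    rw [mat6_mul, ec, ec', Matrix.smul_mul, Matrix.one_mul, smul_smul]
  inv_mem' := by
    intro a ha x
    refine ⟨(Commute.inv_left (ha x).1).eq, ?_⟩
    have hpow : ∀ n : ℕ, ∃ c : F, mat6 (a ^ n) = c • 1 := by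
      intro n
      induction n with
      | zero => exact ⟨1, by rw [pow_zero, mat6_one, one_smul]⟩
      | succ n ih =>
        obtain ⟨c, hc⟩ := ih
        obtain ⟨c', hc'⟩ := (ha 1).2
        exact ⟨c * c', by rw [pow_succ, mat6_mul, hc, hc', Matrix.smul_mul, Matrix.one_mul,
          smul_smul]⟩
    rw [show a⁻¹ = a ^ (orderOf a - 1) from inv_eq_of_mul_eq_one_right (by
      rw [← pow_succ', Nat.sub_add_cancel (orderOf_pos a), pow_orderOf_eq_one])]
    exact hpow _

theorem mem_scalars {g : Cfsg.SU 6 F 2} : g ∈ scalars w ↔ ∃ c : F, mat6 g = c • 1 := by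
  refine ⟨fun hg => (hg 1).2, fun ⟨c, hc⟩ x => ⟨mat6_inj ?_, c, hc⟩⟩
  rw [mat6_mul, mat6_mul, hc, Matrix.smul_mul, Matrix.one_mul, Matrix.mul_smul, Matrix.mul_one]

instance scalars_normal : (scalars w : Subgroup (Cfsg.SU 6 F 2)).Normal :=
  ⟨fun a ha g => by rwa [← (ha g).1, mul_inv_cancel_right]⟩

include h in
theorem exists_wz_of_scalar {g : Cfsg.SU 6 F 2} {c : F} (hc : mat6 g = c • 1) :
    ∃ e, c = wz w e := by
  obtain ⟨a, ha, rfl⟩ := h.exists_val c
  have hd := mat6_det g
  rw [hc] at hd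
  rcases Nat.eq_zero_or_pos a with rfl | hpos
  · simp [h.val_zero] at hd
  · refine ⟨((a - 1 : ℕ) : ZMod 3), ?_⟩
    rw [wz, ZMod.val_natCast, Nat.mod_eq_of_lt (by omega), ← h.val_wc]
    congr 1
    unfold wc
    omega

include h in
theorem mem_scalars_iff {g : Cfsg.SU 6 F 2} :
    g ∈ scalars w ↔ ∃ e, mat6 g = monoM w 1 fun _ => e := by
  have key : ∀ e : ZMod 3, wz w e • (1 : Matrix (Fin 6) (Fin 6) F) = monoM w 1 fun _ => e := by
    intro e
    rw [← monoM_one (w := w), smul_monoM h]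
    simp
  rw [mem_scalars]
  constructor
  · rintro ⟨c, hc⟩
    obtain ⟨e, rfl⟩ := exists_wz_of_scalar h hc
    exact ⟨e, hc.trans (key e)⟩
  · rintro ⟨e, he⟩
    exact ⟨wz w e, he.trans (key e).symm⟩

include h in
theorem scalars_le (H : Subgroup (Perm (Fin 6))) : scalars w ≤ monoSub h H := fun _ hg => by
  obtain ⟨e, he⟩ := (mem_scalars_iff h).1 hg
  exact ⟨1, one_mem H, _, he⟩

include h in
theorem card_scalars : Nat.card (scalars w : Subgroup (Cfsg.SU 6 F 2)) = 3 := by
  choose f hf using fun e : ZMod 3 =>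
    exists_mono h 1 (d := fun _ => e) (by revert e; decide)
  let Φ : ZMod 3 → (scalars w : Subgroup (Cfsg.SU 6 F 2)) :=
    fun e => ⟨f e, (mem_scalars_iff h).2 ⟨e, hf e⟩⟩
  have hΦ : Function.Bijective Φ := by
    constructor
    · intro a b e
      have e' := congrArg (fun z : (scalars w : Subgroup (Cfsg.SU 6 F 2)) => mat6 z.1) e
      simp only [Φ, hf] at e'
      exact congrFun (monoM_inj h e').2 0
    · rintro ⟨g, hg⟩
      obtain ⟨e, he⟩ := (mem_scalars_iff h).1 hg
      exact ⟨e, Subtype.ext (mat6_inj ((hf e).trans he.symm))⟩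
  rw [← Nat.card_congr (Equiv.ofBijective Φ hΦ), Nat.card_eq_fintype_card, ZMod.card]

include h in
/-- Monomial elements commuting modulo scalars. -/
theorem comm_mod {a b : Cfsg.SU 6 F 2} {π σ : Perm (Fin 6)} {d d' : Fin 6 → ZMod 3}
    (ea : mat6 a = monoM w π d) (eb : mat6 b = monoM w σ d')
    (hab : Commute (QuotientGroup.mk' (scalars w) a) (QuotientGroup.mk' (scalars w) b)) :
    π * σ = σ * π ∧ ∃ e : ZMod 3, ∀ j, d' (π j) + d j = d (σ j) + d' j + e := by
  rw [Commute, SemiconjBy, ← map_mul, ← map_mul] at hab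
  obtain ⟨z, hz, ez⟩ := (QuotientGroup.mk'_eq_mk' _).1 hab
  obtain ⟨e, he⟩ := (mem_scalars_iff h).1 hz
  have := congrArg mat6 ez
  rw [mat6_mul, mat6_mul, mat6_mul, ea, eb, he, monoM_mul h, monoM_mul h, monoM_mul h] at this
  obtain ⟨h1, h2⟩ := monoM_inj h this
  exact ⟨by simpa using h1, e, fun j => (congrFun h2 j).symm⟩

/-- Diagonal elements. -/
abbrev Tsub : Subgroup (Cfsg.SU 6 F 2) := monoSub h ⊥

/-- The Sylow 3-subgroup. -/
abbrev Psub : Subgroup (Cfsg.SU 6 F 2) := monoSub h nine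

/-- The normalised subgroup. -/
abbrev Msub : Subgroup (Cfsg.SU 6 F 2) := monoSub h (alternatingGroup (Fin 6))

include h in
theorem card_nine : Nat.card nine = 9 := by
  rw [← card_nine_aux, ← Nat.card_eq_finsetCard]
  exact Nat.card_congr (Equiv.subtypeEquivRight fun σ => by simp [mem_nine])

include h in
/-- The only abelian subgroup of order 81 of the Sylow 3-subgroup modulo scalars. -/
theorem eq_T_of_abelian {A : Subgroup (Cfsg.SU 6 F 2)} (hA : A ≤ Psub h)
    (hcard : Nat.card A = 243)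
    (hab : ∀ a ∈ A, ∀ b ∈ A,
      Commute (QuotientGroup.mk' (scalars w) a) (QuotientGroup.mk' (scalars w) b)) :
    A = Tsub h := by
  classical
  choose! pr hpr dv hdv using fun a (ha : a ∈ A) => (hA ha : a ∈ monoSub h nine)
  by_cases h1 : ∀ a ∈ A, pr a = 1
  · refine Subgroup.eq_of_le_of_card_ge (fun a ha => ⟨1, one_mem _, dv a, ?_⟩) ?_
    · have := hdv a ha
      rwa [h1 a ha] at this
    · rw [card_monoSub h, hcard, Subgroup.card_bot]
  exfalso
  push Not at h1
  obtain ⟨a₀, ha₀, hne⟩ := h1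
  let π : A →* Perm (Fin 6) :=
    { toFun := fun a => pr a.1
      map_one' := by
        have e := hdv 1 (one_mem A)
        rw [mat6_one, ← monoM_one (w := w)] at e
        exact (monoM_inj h e).1.symm
      map_mul' := fun a b => by
        have e := hdv _ (mul_mem a.2 b.2)
        rw [mat6_mul, hdv a.1 a.2, hdv b.1 b.2, monoM_mul h] at e
        exact (monoM_inj h e).1.symm }
  have hdsum : ∀ a : A, ∑ j, dv a.1 j = 0 := fun a => sum_of_mat h (hdv a.1 a.2)
  have hmul := π.ker.card_mul_index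
  rw [Subgroup.index_ker, hcard] at hmul
  have hrange : π.range ≤ nine := by rintro _ ⟨a, rfl⟩; exact hpr a.1 a.2
  have hr9 : Nat.card π.range ≤ 9 := by
    rw [← card_nine h]; exact Subgroup.card_le_of_le hrange
  -- the kernel is fixed by every permutation of the image
  have hkfix : ∀ (k : A), π k = 1 → ∀ b : A, ∃ e : ZMod 3,
      ∀ j, dv k.1 ((π b) j) - dv k.1 j = e := by
    intro k hk b
    have ek := hdv k.1 k.2
    rw [show pr k.1 = 1 from hk] at ek
    obtain ⟨-, e, he⟩ := comm_mod h (hdv b.1 b.2) ek (hab b.1 b.2 k.1 k.2)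
    exact ⟨e, fun j => by
      have := he j
      simp only [Perm.one_apply] at this
      show dv k.1 (pr b.1 j) - _ = _
      linear_combination this⟩
  let κ : π.ker → Dv := fun k => ⟨dv k.1.1, hdsum k.1⟩
  have hκ : Function.Injective κ := by
    intro k l e
    have ek := hdv k.1.1 k.1.2
    have el := hdv l.1.1 l.1.2
    rw [show pr k.1.1 = 1 from k.2] at ek
    rw [show pr l.1.1 = 1 from l.2] at el
    rw [show dv k.1.1 = dv l.1.1 from congrArg Subtype.val e] at ek
    exact Subtype.ext (Subtype.ext (mat6_inj (ek.trans el.symm)))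
  have hle : ∀ (p : Dv → Prop) [DecidablePred p] (n : ℕ), (Finset.univ.filter p).card ≤ n →
      (∀ k, p (κ k)) → Nat.card π.ker ≤ n := by
    intro p _ n hn hp
    refine le_trans ?_ hn
    rw [← Nat.card_eq_finsetCard]
    exact Nat.card_le_card_of_injective
      (fun k => (⟨κ k, Finset.mem_filter.2 ⟨Finset.mem_univ _, hp k⟩⟩ :
        (Finset.univ.filter p)))
      fun a b e => hκ (congrArg Subtype.val e :)
  have h27 : Nat.card π.ker ≤ 27 :=
    hle _ 27 (fixed_le_aux _ (mem_nine.1 (hpr a₀ ha₀)) hne) fun k => hkfix k.1 k.2 ⟨a₀, ha₀⟩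
  have heq : π.range = nine := by
    refine Subgroup.eq_of_le_of_card_ge hrange ?_
    rw [card_nine h]
    nlinarith
  obtain ⟨b, hb⟩ : pc3 ∈ π.range := by rw [heq]; exact mem_nine.2 (by decide)
  obtain ⟨b', hb'⟩ : pc3' ∈ π.range := by rw [heq]; exact mem_nine.2 (by decide)
  have h9 : Nat.card π.ker ≤ 9 := hle _ 9 fixed_both_card fun k =>
    ⟨hb ▸ hkfix k.1 k.2 b, hb' ▸ hkfix k.1 k.2 b'⟩
  nlinarith

include h in
/-- The centre of the Sylow 3-subgroup modulo scalars is spanned by `t`. -/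
theorem center_P {z : Cfsg.SU 6 F 2} (hz : z ∈ Psub h)
    (hc : ∀ b ∈ Psub h, Commute (QuotientGroup.mk' (scalars w) z) (QuotientGroup.mk' (scalars w) b)) :
    ∃ a e : ZMod 3, mat6 z = monoM w 1 fun j => a * tvec j + e := by
  obtain ⟨π, hπ, d, ez⟩ := hz
  have h1 : π = 1 := by
    refine central_nine_aux π (mem_nine.1 hπ) fun i => ?_
    have hs : ∀ i : Fin 5, ∑ k : Fin 6,
        (if k = i.castSucc then (1 : ZMod 3) else if k = 5 then 2 else 0) = 0 := by decide
    obtain ⟨b, eb⟩ := exists_mono h 1 (hs i)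
    obtain ⟨-, e, he⟩ := comm_mod h ez eb (hc b ⟨1, one_mem _, _, eb⟩)
    exact ⟨e, fun j => by have := he j; simp only [Perm.one_apply] at this; linear_combination this⟩
  subst h1
  have hfix : ∀ σ ∈ nine, ∃ e : ZMod 3, ∀ j, d (σ j) - d j = e := by
    intro σ hσ
    obtain ⟨b, eb⟩ := exists_mono h σ (d := 0) (by simp)
    obtain ⟨-, e, he⟩ := comm_mod h ez eb (hc b ⟨σ, hσ, _, eb⟩)
    exact ⟨-e, fun j => by have := he j; simp only [Pi.zero_apply] at this; linear_combination -this⟩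
  obtain ⟨a, e, he⟩ := fixed_both_span ⟨d, sum_of_mat h ez⟩
    (hfix pc3 (mem_nine.2 (by decide))) (hfix pc3' (mem_nine.2 (by decide)))
  exact ⟨a, e, by rw [ez]; congr 1; funext j; exact he j⟩

include h in
/-- An element with monomial columns. -/
theorem mem_mono_of_cols {g : Cfsg.SU 6 F 2}
    (hcol : ∀ i i' j, mat6 g i j ≠ 0 → mat6 g i' j ≠ 0 → i = i') : g ∈ monoSub h ⊤ := by
  have hu : adjM (mat6 g) * mat6 g = 1 := h.adj_mat6 g
  have hex : ∀ j, ∃ i, mat6 g i j ≠ 0 := by
    intro j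
    by_contra hcon
    push Not at hcon
    have := congrFun (congrFun hu j) j
    rw [Matrix.mul_apply, Matrix.one_apply_eq] at this
    simp [hcon] at this
  choose f hf using hex
  have hzero : ∀ i j, i ≠ f j → mat6 g i j = 0 := fun i j hne => by
    by_contra hc; exact hne (hcol i (f j) j hc (hf j))
  have hfi : Function.Injective f := by
    intro j j' e
    by_contra hne
    have := congrFun (congrFun hu j) j'
    rw [Matrix.mul_apply, Matrix.one_apply_ne hne, Finset.sum_eq_single (f j)] at this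
    · exact mul_ne_zero (pow_ne_zero 2 (hf j)) (e ▸ hf j') this
    · intro b _ hb
      show mat6 g b j ^ 2 * _ = 0
      rw [hzero b j hb]; ring
    · simp
  let π : Perm (Fin 6) := Equiv.ofBijective f hfi.bijective_of_finite
  have hd : ∀ j, ∃ e : ZMod 3, mat6 g (f j) j = wz w e := by
    intro j
    obtain ⟨a, ha, e⟩ := h.exists_val (mat6 g (f j) j)
    have hpos : a ≠ 0 := fun e0 => hf j (by rw [← e, e0, h.val_zero])
    refine ⟨((a - 1 : ℕ) : ZMod 3), ?_⟩
    rw [wz, ZMod.val_natCast, Nat.mod_eq_of_lt (by omega), ← e, ← h.val_wc]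
    congr 1
    unfold wc
    omega
  choose d hd using hd
  refine ⟨π, Subgroup.mem_top _, d, ?_⟩
  ext i j
  by_cases hij : i = f j
  · subst hij
    simp only [monoM, Matrix.of_apply]
    rw [if_pos (show f j = π j from rfl), hd]
  · simp only [monoM, Matrix.of_apply]
    rw [if_neg (show ¬ i = π j from hij), hzero i j hij]

include h in
/-- The normaliser of the diagonal subgroup is monomial. -/
theorem mem_mono_of_normalizes {g : Cfsg.SU 6 F 2}
    (hg : ∀ t ∈ Tsub h, g * t * g⁻¹ ∈ Tsub h) : g ∈ monoSub h ⊤ := by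
  have hsurj : ∀ t' ∈ Tsub h, g⁻¹ * t' * g ∈ Tsub h := by
    intro t' ht'
    let f : Tsub h → Tsub h := fun t => ⟨g * t.1 * g⁻¹, hg t.1 t.2⟩
    have hf : Function.Injective f := fun a b e => Subtype.ext
      (mul_left_cancel (mul_right_cancel (congrArg Subtype.val e)))
    obtain ⟨t, ht⟩ := Finite.injective_iff_surjective.1 hf ⟨t', ht'⟩
    have e : t' = g * t.1 * g⁻¹ := (congrArg Subtype.val ht).symm
    rw [e]
    simpa [mul_assoc] using t.2
  have hcol : ∀ i i' j, mat6 g i j ≠ 0 → mat6 g i' j ≠ 0 → i = i' := by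
    intro i i' j hi hi'
    by_contra hne
    have hs : ∑ k : Fin 6, ((if k = i then (1 : ZMod 3) else 0) - if k = i' then 1 else 0) = 0 := by
      simp
    obtain ⟨t', et'⟩ := exists_mono h 1 hs
    obtain ⟨π, hπ, d, ed⟩ := hsurj t' ⟨1, one_mem _, _, et'⟩
    rw [Subgroup.mem_bot] at hπ
    subst hπ
    have e : t' * g = g * (g⁻¹ * t' * g) := by group
    have e' := congrArg mat6 e
    rw [mat6_mul, mat6_mul, et', ed] at e'
    have key : ∀ (a : Fin 6), mat6 g a j ≠ 0 →
        ((if a = i then (1 : ZMod 3) else 0) - if a = i' then 1 else 0) = d j := by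
      intro a ha
      have := congrFun (congrFun e' a) j
      rw [monoM_one_mul, mul_monoM_one, mul_comm] at this
      exact h.wz_inj (mul_left_cancel₀ ha this)
    have k1 := key i hi
    have k2 := key i' hi'
    rw [if_pos rfl, if_neg hne] at k1
    rw [if_neg (Ne.symm hne), if_pos rfl] at k2
    rw [← k1] at k2
    exact absurd k2 (by decide)
  exact mem_mono_of_cols h hcol

end Cfsg.Agent.SU62Sub75
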