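import Cfsg.Agent.SU62Sub75.Triple

/-!
A triple cover over the Sylow subgroup contains the monomial group and one representative (helper75).
-/

set_option autoImplicit false
set_option linter.unusedSectionVars false

namespace Cfsg.Agent.SU62Sub75

open Matrix Equiv Cfsg.Agent.ChevCore Cfsg.Agent.CosetEnum

/-- Subgroups of Sylow order are conjugate. -/
theorem exists_conj_of_card {G : Type} [Group G] [Finite G] {n m : ℕ} (hG : Nat.card G = 3 ^ n * m)
    (hm : ¬ 3 ∣ m) {A B : Subgroup G} (hA : Nat.card A = 3 ^ n) (hB : Nat.card B = 3 ^ n) :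
    ∃ g : G, A.map (MulAut.conj g).toMonoidHom = B := by
  have := Fact.mk Nat.prime_three
  have hf : (Nat.card G).factorization 3 = n := by
    rw [hG, Nat.factorization_mul (pow_ne_zero _ three_ne_zero) (by rintro rfl; exact hm (dvd_zero _)),
      Finsupp.add_apply, Nat.factorization_eq_zero_of_not_dvd hm, add_zero,
      Nat.Prime.factorization_pow Nat.prime_three, Finsupp.single_eq_same]
  obtain ⟨g, hg⟩ := MulAction.exists_smul_eq G (Sylow.ofCard A (by rw [hA, hf]))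
    (Sylow.ofCard B (by rw [hB, hf]))
  exact ⟨g, congrArg Sylow.toSubgroup hg⟩

/-- Subgroups of Sylow order of a subgroup are conjugate in it. -/
theorem exists_conj_mem {G : Type} [Group G] [Finite G] {K A B : Subgroup G} {n m : ℕ}
    (hK : Nat.card K = 3 ^ n * m) (hm : ¬ 3 ∣ m) (hA : A ≤ K) (hB : B ≤ K)
    (hcA : Nat.card A = 3 ^ n) (hcB : Nat.card B = 3 ^ n) :
    ∃ g ∈ K, A.map (MulAut.conj g).toMonoidHom = B := by
  obtain ⟨g, hg⟩ := exists_conj_of_card hK hm (A := A.subgroupOf K) (B := B.subgroupOf K)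
    ((Nat.card_congr (Subgroup.subgroupOfEquivOfLe hA).toEquiv).trans hcA)
    ((Nat.card_congr (Subgroup.subgroupOfEquivOfLe hB).toEquiv).trans hcB)
  refine ⟨g, g.2, ?_⟩
  have := congrArg (Subgroup.map K.subtype) hg
  rw [Subgroup.map_map, Subgroup.map_subgroupOf_eq_of_le hB] at this
  rw [← this]
  conv_lhs => rw [← Subgroup.map_subgroupOf_eq_of_le hA, Subgroup.map_map]
  rfl

variable {F : Type} [Field F] [Fintype F] {w : F} {F9 : Type} [Field F9] [Fintype F9] {ι : F9}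
variable (h : IsF4 w) (hF : Fintype.card F9 = 3 ^ 2) (hι : ι * ι = -1)

/-- The quotient group. -/
abbrev Qb (w : F) := Cfsg.SU 6 F 2 ⧸ (scalars w : Subgroup (Cfsg.SU 6 F 2))

/-- The preimage of a subgroup under an identification of two images. -/
def pull {K K₀ : Subgroup (Qb w)} (ε : K ≃* K₀) (H : Subgroup (Cfsg.SU 6 F 2)) :
    Subgroup (Cfsg.SU 6 F 2) :=
  ((((H.map (bar w)).subgroupOf K₀).comap ε.toMonoidHom).map K.subtype).comap (bar w)

theorem mem_pull {K K₀ : Subgroup (Qb w)} {ε : K ≃* K₀} {H : Subgroup (Cfsg.SU 6 F 2)}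
    {g : Cfsg.SU 6 F 2} :
    g ∈ pull ε H ↔ ∃ hg : bar w g ∈ K, ∃ x ∈ H, bar w x = (ε ⟨bar w g, hg⟩ : Qb w) := by
  constructor
  · rintro ⟨⟨y, hy⟩, hmem, (e : y = bar w g)⟩
    subst e
    exact ⟨hy, hmem⟩
  · rintro ⟨hg, hx⟩
    exact ⟨⟨bar w g, hg⟩, hx, rfl⟩

include h in
theorem card_pull {K K₀ : Subgroup (Qb w)} (ε : K ≃* K₀) {H : Subgroup (Cfsg.SU 6 F 2)}
    (hs : scalars w ≤ H) (hH : H.map (bar w) ≤ K₀) : Nat.card (pull ε H) = Nat.card H := by
  rw [pull, card_comap_bar h, card_of_scalars_le h hs,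
    Nat.card_congr (Subgroup.equivMapOfInjective _ _ K.subtype_injective).toEquiv.symm]
  congr 1
  rw [← Nat.card_congr (Subgroup.subgroupOfEquivOfLe hH).toEquiv]
  exact Nat.card_congr (Equiv.subtypeEquiv ε.toEquiv fun _ => Iff.rfl)

include h in
theorem Tsub_conj {π : Perm (Fin 6)} {d : Fin 6 → ZMod 3} {m t : Cfsg.SU 6 F 2}
    (em : mat6 m = monoM w π d) (ht : t ∈ Tsub h) : m * t * m⁻¹ ∈ Tsub h := by
  obtain ⟨ρ, hρ, d1, e1⟩ := ht
  obtain ⟨σ, -, d2, e2⟩ := (monoSub h ⊤).inv_mem (⟨π, trivial, d, em⟩ : m ∈ monoSub h ⊤)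
  have := congrArg mat6 (mul_inv_cancel m)
  rw [mat6_mul, em, e2, monoM_mul h, mat6_one, ← monoM_one (w := w)] at this
  refine ⟨π * ρ * σ, ?_, _, by rw [mat6_mul, mat6_mul, em, e1, e2, monoM_mul h, monoM_mul h]⟩
  rw [Subgroup.mem_bot.1 hρ, mul_one]
  exact Subgroup.mem_bot.2 (monoM_inj h this).1

theorem tvec_fix : ∀ σ : Perm (Fin 6), pc3 * σ = σ * pc3 ∧ pc3' * σ = σ * pc3' →
    ∀ j, tvec (σ j) = tvec j := by decide +kernel

theorem cand15_blocks : ∀ i j : Fin 6, tvec i ≠ tvec j → ent (candN 15) i j = 0 := by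
  decide +kernel

include h hF hι in
/-- A triple cover over the Sylow subgroup. -/
theorem exists_form {K : Subgroup (Cfsg.SU 6 F 2)} (hK : Triple F9 K) (hP : Psub h ≤ K) :
    Msub h ≤ K ∧ ∃ k < 32, ∃ c ∈ K, mat6 c = toM w (candN k) ∧
      K ≤ Msub h ⊔ Subgroup.zpowers c := by
  obtain ⟨hs, ⟨e⟩⟩ := bar_of_triple h hF hK hP
  obtain ⟨e0⟩ := imageK_bar (w := w) h hF hι
  have hM0 : Msub h ≤ imageK w ι := msub_le_imageK h hF hι
  have hPM : Psub h ≤ Msub h := monoSub_mono h nine_le_alternating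
  have hTP : Tsub h ≤ Psub h := monoSub_mono h bot_le
  have hsP : scalars w ≤ Psub h := scalars_le h _
  have hmem : ∀ g, bar w g ∈ K.map (bar w) → g ∈ K := by
    intro g hg
    have : g ∈ (K.map (bar w)).comap (bar w) := hg
    rwa [Subgroup.comap_map_eq_self (by rwa [bar, QuotientGroup.ker_mk'])] at this
  have hcardP : Nat.card ((Psub h).map (bar w)) = 3 ^ 6 := by
    have := card_of_scalars_le h hsP
    rw [card_Psub h] at this
    norm_num at this ⊢
    omega
  -- adjust so that the Sylow subgroup is fixed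
  obtain ⟨ε, hεP⟩ : ∃ ε : K.map (bar w) ≃* (imageK w ι).map (bar w),
      ∀ y : K.map (bar w), (y : Qb w) ∈ (Psub h).map (bar w) →
        (ε y : Qb w) ∈ (Psub h).map (bar w) := by
    let ε₀ := e.trans e0.symm
    have hc0 : Nat.card ((imageK w ι).map (bar w)) = 3 ^ 6 * 4480 := by
      rw [Nat.card_congr e0.toEquiv, card_PSU_four hF]; rfl
    obtain ⟨g, hg⟩ := exists_conj_of_card hc0 (by norm_num)
      (A := (((Psub h).map (bar w)).subgroupOf (K.map (bar w))).map ε₀.toMonoidHom)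
      (B := ((Psub h).map (bar w)).subgroupOf ((imageK w ι).map (bar w)))
      (by rw [Nat.card_congr (Subgroup.equivMapOfInjective _ _ ε₀.injective).toEquiv.symm,
            Nat.card_congr (Subgroup.subgroupOfEquivOfLe (Subgroup.map_mono hP)).toEquiv, hcardP])
      (by rw [Nat.card_congr
            (Subgroup.subgroupOfEquivOfLe (Subgroup.map_mono (hPM.trans hM0))).toEquiv, hcardP])
    refine ⟨ε₀.trans (MulAut.conj g), fun y hy => ?_⟩
    have : (MulAut.conj g) (ε₀ y) ∈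
        ((Psub h).map (bar w)).subgroupOf ((imageK w ι).map (bar w)) :=
      hg ▸ ⟨ε₀ y, ⟨y, hy, rfl⟩, rfl⟩
    exact Subgroup.mem_subgroupOf.1 this
  have hle : ∀ H, pull ε H ≤ K := fun H g hg => hmem g (mem_pull.1 hg).1
  have hpullP : pull ε (Psub h) = Psub h := by
    refine (Subgroup.eq_of_le_of_card_ge (fun g hg => ?_) ?_).symm
    · exact mem_pull.2 ⟨⟨g, hP hg, rfl⟩, hεP _ ⟨g, hg, rfl⟩⟩
    · rw [card_pull h ε hsP (Subgroup.map_mono (hPM.trans hM0))]
  have hpullT : pull ε (Tsub h) = Tsub h := by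
    refine eq_T_of_abelian h (fun g hg => ?_) ?_ ?_
    · rw [← hpullP]
      obtain ⟨hg', x, hx, ex⟩ := mem_pull.1 hg
      exact mem_pull.2 ⟨hg', x, hTP hx, ex⟩
    · rw [card_pull h ε (scalars_le h _) (Subgroup.map_mono ((hTP.trans hPM).trans hM0)),
        card_monoSub h, Subgroup.card_bot]
    · intro a ha b hb
      obtain ⟨ha', x, hx, ex⟩ := mem_pull.1 ha
      obtain ⟨hb', y, hy, ey⟩ := mem_pull.1 hb
      obtain ⟨π, hπ, d, ed⟩ := hx
      obtain ⟨σ, hσ, d', ed'⟩ := hy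
      have hxy : x * y = y * x := mat6_inj (by
        rw [mat6_mul, mat6_mul, ed, ed', monoM_mul h, monoM_mul h, Subgroup.mem_bot.1 hπ,
          Subgroup.mem_bot.1 hσ]
        congr 1
        funext j
        simp [add_comm])
      have hc : (⟨bar w a, ha'⟩ : K.map (bar w)) * ⟨bar w b, hb'⟩ = ⟨bar w b, hb'⟩ * ⟨bar w a, ha'⟩ :=
        ε.injective (Subtype.ext (by
          rw [map_mul, map_mul, Subgroup.coe_mul, Subgroup.coe_mul, ← ex, ← ey, ← map_mul, hxy,
            map_mul]))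
      exact congrArg Subtype.val hc
  have hpullM : pull ε (Msub h) = Msub h := by
    have hnorm : pull ε (Msub h) ≤ monoSub h ⊤ := by
      intro g hg
      obtain ⟨hg', x, ⟨π, hπ, d, ed⟩, ex⟩ := mem_pull.1 hg
      refine mem_mono_of_normalizes h fun t ht => ?_
      rw [← hpullT] at ht ⊢
      obtain ⟨ht', y, hy, ey⟩ := mem_pull.1 ht
      have hin : bar w (g * t * g⁻¹) ∈ K.map (bar w) := by
        rw [map_mul, map_mul, map_inv]; exact mul_mem (mul_mem hg' ht') (inv_mem hg')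
      refine mem_pull.2 ⟨hin, x * y * x⁻¹, Tsub_conj h ed hy, ?_⟩
      rw [show (⟨bar w (g * t * g⁻¹), hin⟩ : K.map (bar w)) =
        ⟨bar w g, hg'⟩ * ⟨bar w t, ht'⟩ * ⟨bar w g, hg'⟩⁻¹ from
          Subtype.ext (by simp only [map_mul, map_inv]; rfl)]
      simp only [map_mul, map_inv, Subgroup.coe_mul, Subgroup.coe_inv, ← ex, ← ey]
    let H : Subgroup (Perm (Fin 6)) :=
      { carrier := {π | ∃ g ∈ pull ε (Msub h), ∃ d, mat6 g = monoM w π d}
        one_mem' := ⟨1, one_mem _, 0, by rw [mat6_one, monoM_one]⟩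
        mul_mem' := fun ⟨g, hg, d, e⟩ ⟨g', hg', d', e'⟩ =>
          ⟨g * g', mul_mem hg hg', _, by rw [mat6_mul, e, e', monoM_mul h]⟩
        inv_mem' := by
          rintro π ⟨g, hg, d, e⟩
          obtain ⟨σ, -, d', e'⟩ := (monoSub h ⊤).inv_mem ⟨π, trivial, d, e⟩
          refine ⟨g⁻¹, inv_mem hg, d', ?_⟩
          have := congrArg mat6 (mul_inv_cancel g)
          rw [mat6_mul, e, e', monoM_mul h, mat6_one, ← monoM_one (w := w)] at this
          rwa [inv_eq_of_mul_eq_one_right (monoM_inj h this).1] }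
    have hTM : Tsub h ≤ pull ε (Msub h) := by
      intro g hg
      rw [← hpullT] at hg
      obtain ⟨hg', x, hx, ex⟩ := mem_pull.1 hg
      exact mem_pull.2 ⟨hg', x, (hTP.trans hPM) hx, ex⟩
    have heq : pull ε (Msub h) = monoSub h H := by
      refine le_antisymm (fun g hg => ?_) ?_
      · obtain ⟨π, -, d, ed⟩ := hnorm hg
        exact ⟨π, ⟨g, hg, d, ed⟩, d, ed⟩
      · rintro g ⟨π, ⟨g', hg', d', e'⟩, d, ed⟩
        obtain ⟨t, et⟩ := exists_mono h 1 (d := fun j => d j - d' j) (by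
          rw [Finset.sum_sub_distrib, sum_of_mat h ed, sum_of_mat h e', sub_zero])
        rw [show g = g' * t from mat6_inj (by
          rw [mat6_mul, ed, e', et, monoM_mul h, mul_one]; congr 1; funext j; simp)]
        exact mul_mem hg' (hTM ⟨1, one_mem _, _, et⟩)
    rw [heq]
    congr 1
    apply Perm.eq_alternatingGroup_of_index_eq_two
    have h1 := card_pull h ε (scalars_le h _) (Subgroup.map_mono hM0) (H := Msub h)
    rw [heq, card_monoSub h, card_monoSub h, nat_card_alternatingGroup, Nat.card_fin] at h1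
    have h2 := H.card_mul_index
    rw [Nat.card_perm, Nat.card_fin] at h2
    change H.index = 2
    rw [show Nat.factorial 6 = 720 from rfl] at h2
    norm_num [Nat.factorial] at h1
    have hc : Nat.card H = 360 := by omega
    rw [hc] at h2
    omega
  have hMK : Msub h ≤ K := hpullM ▸ hle _
  refine ⟨hMK, ?_⟩
  -- a preimage of the extra element
  obtain ⟨x0, hx0, ex0⟩ := exists_x0 (w := w) h hF hι
  obtain ⟨y, hy⟩ := ε.surjective ⟨bar w x0, x0, hx0, rfl⟩
  obtain ⟨x, hxK, hxy⟩ := y.2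
  obtain ⟨t, et⟩ := exists_mono h 1 (d := tvec) (by decide)
  have htP : t ∈ Psub h := ⟨1, one_mem _, _, et⟩
  obtain ⟨y', hy'⟩ := ε.surjective ⟨bar w t, t, hM0 (hPM htP), rfl⟩
  obtain ⟨z, hzK, hzy⟩ := y'.2
  have hzP : z ∈ Psub h := by
    rw [← hpullP]
    refine mem_pull.2 ⟨⟨z, hzK, rfl⟩, t, htP, ?_⟩
    exact (congrArg Subtype.val hy').symm.trans
      (congrArg (fun u => (ε u : Qb w)) (Subtype.ext hzy.symm))
  have hcomm : ∀ (b : Cfsg.SU 6 F 2) (hb : bar w b ∈ K.map (bar w)),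
      Commute (bar w t) (ε ⟨bar w b, hb⟩ : Qb w) → Commute (bar w z) (bar w b) := by
    intro b hb hc
    have : y' * ⟨bar w b, hb⟩ = ⟨bar w b, hb⟩ * y' := ε.injective (Subtype.ext (by
      rw [map_mul, map_mul, Subgroup.coe_mul, Subgroup.coe_mul, hy']
      exact hc.eq))
    have := congrArg Subtype.val this
    rw [Subgroup.coe_mul, Subgroup.coe_mul, ← hzy] at this
    exact this
  obtain ⟨a, e', ez⟩ := center_P h hzP fun b hb => by
    refine hcomm b ⟨b, hP hb, rfl⟩ ?_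
    obtain ⟨p, hp, ep⟩ := hεP ⟨bar w b, b, hP hb, rfl⟩ ⟨b, hb, rfl⟩
    rw [← ep]
    refine (show Commute t p from mat6_inj ?_).map _
    obtain ⟨σ, hσ, d, ed⟩ := hp
    rw [mat6_mul, mat6_mul, et, ed, monoM_mul h, monoM_mul h, one_mul, mul_one]
    congr 1
    funext j
    rw [tvec_fix σ (mem_nine.1 hσ) j, Perm.one_apply, add_comm]
  have ha : a ≠ 0 := by
    rintro rfl
    have hz1 : bar w z = 1 := (QuotientGroup.eq_one_iff _).2 ((mem_scalars_iff h).2
      ⟨e', ez.trans (by congr 1; funext j; simp)⟩)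
    have h1 : y' = 1 := Subtype.ext (hzy.symm.trans hz1)
    rw [h1, map_one] at hy'
    have ht1 : bar w t = 1 := (congrArg Subtype.val hy').symm
    obtain ⟨e2, he2⟩ := (mem_scalars_iff h).1 ((QuotientGroup.eq_one_iff _).1 ht1)
    rw [et] at he2
    have h3 := (monoM_inj h he2).2
    exact absurd ((congrFun h3 0).trans (congrFun h3 3).symm) (by decide)
  have hx0t : x0 * t = t * x0 := mat6_inj (by
    rw [mat6_mul, mat6_mul, et]
    ext i j
    rw [monoM_one_mul, mul_monoM_one]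
    by_cases hij : tvec i = tvec j
    · rw [hij, mul_comm]
    · rw [ex0, show toM w (candN 15) i j = 0 by
        show val w (ent _ i j) = 0
        rw [cand15_blocks i j hij, h.val_zero], zero_mul, mul_zero])
  have hzx : Commute (bar w z) (bar w x) := by
    refine hcomm x ⟨x, hxK, rfl⟩ ?_
    have e1 : ∀ pf, ((ε ⟨bar w x, pf⟩ : Qb w)) = bar w x0 := fun pf =>
      (congrArg (fun u => (ε u : Qb w)) (Subtype.ext hxy)).trans (congrArg Subtype.val hy)
    convert (show Commute t x0 from hx0t.symm).map (bar w) using 1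
    exact e1 _
  have hXZ : mat6 z * mat6 x = mat6 x * mat6 z := by
    rw [Commute, SemiconjBy, ← map_mul, ← map_mul] at hzx
    obtain ⟨s, hs', es⟩ := (QuotientGroup.mk'_eq_mk' _).1 hzx
    obtain ⟨c, hc⟩ := mem_scalars.1 hs'
    have e1 := congrArg mat6 es
    rw [mat6_mul, mat6_mul, mat6_mul, hc, Matrix.mul_smul, Matrix.mul_one] at e1
    have hinv : mat6 x * mat6 x⁻¹ = 1 := by rw [← mat6_mul, mul_inv_cancel, mat6_one]
    have e2 : c • mat6 z = mat6 x * mat6 z * mat6 x⁻¹ := by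
      rw [← e1, Matrix.smul_mul, Matrix.mul_assoc, hinv, Matrix.mul_one]
    have e3 := congrArg Matrix.trace e2
    rw [Matrix.trace_smul, Matrix.mul_assoc, Matrix.trace_mul_comm, Matrix.mul_assoc,
      mul_eq_one_comm.1 hinv, Matrix.mul_one, smul_eq_mul] at e3
    have htr : Matrix.trace (mat6 z) ≠ 0 := by
      rw [ez, Matrix.trace, Fin.sum_univ_six]
      simp only [Matrix.diag_apply, monoM, Matrix.of_apply, Perm.one_apply, if_true]
      simp [tvec]
      intro hsum
      have : wz w (a + e') = wz w e' := by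
        linear_combination hsum - (wz w (a + e') + 2 * wz w e') * h.two
      exact ha (by simpa using h.wz_inj this)
    have hc1 : c = 1 := mul_right_cancel₀ htr (e3.trans (one_mul _).symm)
    rw [hc1, one_smul] at e1
    exact e1
  obtain ⟨k, hk, c, ec, m, hm, hcm⟩ := exists_cand h ha (g := x) (by rw [← ez]; exact hXZ)
  have hcK : c ∈ K := by
    rw [show c = x * m⁻¹ by rw [hcm, mul_inv_cancel_right]]
    exact mul_mem hxK (inv_mem (hMK hm))
  refine ⟨k, hk, c, hcK, ec, ?_⟩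
  -- these generate
  let G := Msub h ⊔ Subgroup.zpowers c
  let S : Subgroup (Cfsg.SU 6 F 2) := ((((G.map (bar w)).subgroupOf (K.map (bar w))).map
    ε.toMonoidHom).map ((imageK w ι).map (bar w)).subtype).comap (bar w)
  have hS : imageK w ι ≤ S := by
    refine imageK_le h hF hι (fun g hg => ?_) ⟨x0, ?_, ex0⟩
    · obtain ⟨u, hu⟩ := ε.surjective ⟨bar w g, g, hM0 hg, rfl⟩
      obtain ⟨g', -, hg'⟩ := u.2
      have hg'M : g' ∈ Msub h := by
        rw [← hpullM]
        refine mem_pull.2 ⟨hg' ▸ u.2, g, hg, ?_⟩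
        rw [show (⟨bar w g', _⟩ : K.map (bar w)) = u from Subtype.ext hg', hu]
      exact ⟨_, ⟨u, ⟨g', Subgroup.mem_sup_left hg'M, hg'⟩, rfl⟩, by rw [MulEquiv.coe_toMonoidHom, hu]; rfl⟩
    · refine ⟨_, ⟨y, ⟨x, ?_, hxy⟩, rfl⟩, by rw [MulEquiv.coe_toMonoidHom, hy]; rfl⟩
      rw [hcm]
      exact mul_mem (Subgroup.mem_sup_right (Subgroup.mem_zpowers c)) (Subgroup.mem_sup_left hm)
  intro g hg
  obtain ⟨g0, hg0, eg0⟩ := (ε ⟨bar w g, g, hg, rfl⟩).2
  obtain ⟨_, ⟨u, ⟨g', hg', hu⟩, rfl⟩, heq⟩ := hS hg0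
  have : u = ⟨bar w g, g, hg, rfl⟩ := ε.injective (Subtype.ext (heq.trans eg0))
  have hbar : bar w g' = bar w g := hu.trans (congrArg Subtype.val this)
  obtain ⟨s, hs', es⟩ := (QuotientGroup.mk'_eq_mk' _).1 hbar
  rw [← es]
  exact mul_mem hg' (Subgroup.mem_sup_left (scalars_le h _ hs'))

end Cfsg.Agent.SU62Sub75
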