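import Cfsg.Agent.SU62Sub75.Model
import Cfsg.Agent.SU62Sub75.Local
import Cfsg.Agent.U43Mult50.Bound
import Cfsg.Agent.SuMult50.PPrime
import Cfsg.Agent.Lib.Unitary.Simple

/-!
The subgroups `3.U_4(3)` and their centres (helper75).
-/

set_option autoImplicit false
set_option linter.unusedSectionVars false

namespace Cfsg.Agent.SU62Sub75

open Matrix Equiv Cfsg.Agent.ChevCore Cfsg.Agent.CosetEnum

variable {F : Type} [Field F] [Fintype F] {w : F} {F9 : Type} [Field F9] [Fintype F9] {ι : F9}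
variable (h : IsF4 w) (hF : Fintype.card F9 = 3 ^ 2) (hι : ι * ι = -1)

/-- The quotient map. -/
abbrev bar (w : F) : Cfsg.SU 6 F 2 →* Cfsg.SU 6 F 2 ⧸ (scalars w : Subgroup (Cfsg.SU 6 F 2)) :=
  QuotientGroup.mk' (scalars w)

theorem const_sum : ∀ e : ZMod 3, ∑ _j : Fin 6, e = 0 := by decide

/-- `Z(K)` has order three and `K/Z(K)` is `PSU_4(3)`. -/
def Triple (F9 : Type) [Field F9] [Fintype F9] (K : Subgroup (Cfsg.SU 6 F 2)) : Prop :=
  Nat.card (Subgroup.center K) = 3 ∧ Nonempty (K ⧸ Subgroup.center K ≃* Cfsg.PSU 4 F9 3)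

include h in
theorem ker_bar_le (H : Subgroup (Perm (Fin 6))) : (bar w).ker ≤ monoSub h H := by
  rw [bar, QuotientGroup.ker_mk']; exact scalars_le h H

include h in
theorem card_comap_bar (X : Subgroup (Cfsg.SU 6 F 2 ⧸ (scalars w : Subgroup (Cfsg.SU 6 F 2)))) :
    Nat.card (X.comap (bar w)) = 3 * Nat.card X := by
  have h1 := (X.comap (bar w)).card_mul_index
  rw [Subgroup.index_comap_of_surjective _ (QuotientGroup.mk'_surjective _),
    Subgroup.card_eq_card_quotient_mul_card_subgroup (scalars w : Subgroup (Cfsg.SU 6 F 2)),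
    card_scalars h, ← X.card_mul_index] at h1
  have hi : X.index ≠ 0 := Subgroup.index_ne_zero_of_finite
  exact Nat.eq_of_mul_eq_mul_right (Nat.pos_of_ne_zero hi) (h1.trans (by ring))

include h in
theorem card_of_scalars_le {K : Subgroup (Cfsg.SU 6 F 2)} (hK : scalars w ≤ K) :
    Nat.card K = 3 * Nat.card (K.map (bar w)) := by
  rw [← card_comap_bar h, Subgroup.comap_map_eq_self (by rwa [bar, QuotientGroup.ker_mk'])]

include h in
/-- A word in a table. -/
theorem exists_word {H : Subgroup (Cfsg.SU 6 F 2)} {tab : List ℕ} {n k : ℕ} {ws : List ℕ}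
    (hs : scalars w ≤ H) (htab : ∀ x < n, ∃ g ∈ H, mat6 g = toM w (kget tab x 0))
    (hws : ∀ x ∈ ws, x < n) : ∃ g ∈ H, mat6 g = toM w (evalW tab k ws) := by
  have hprod : ∃ g ∈ H, mat6 g = (ws.map fun x => toM w (kget tab x 0)).prod := by
    induction ws with
    | nil => exact ⟨1, one_mem H, by simp [mat6_one]⟩
    | cons x l ih =>
      obtain ⟨g, hg, eg⟩ := htab x (hws x List.mem_cons_self)
      obtain ⟨g', hg', eg'⟩ := ih fun y hy => hws y (List.mem_cons_of_mem _ hy)
      exact ⟨g * g', mul_mem hg hg', by rw [mat6_mul, eg, eg', List.map_cons, List.prod_cons]⟩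
  obtain ⟨g, hg, eg⟩ := hprod
  obtain ⟨s, es⟩ := exists_mono h 1 (d := fun _ => (k : ZMod 3)) (by
    rw [Finset.sum_const, Finset.card_univ, Fintype.card_fin]
    have : ∀ a : ZMod 3, 6 • a = 0 := by decide
    exact this _)
  refine ⟨s * g, mul_mem (hs ((mem_scalars_iff h).2 ⟨_, es⟩)) hg, ?_⟩
  have e : monoM w 1 (fun _ => (k : ZMod 3)) = w ^ k • (1 : Matrix (Fin 6) (Fin 6) F) := by
    rw [show w ^ k = wz w (k : ZMod 3) by
      rw [wz, ZMod.val_natCast]
      conv_lhs => rw [← Nat.mod_add_div k 3, pow_add, pow_mul, h.cube, one_pow, mul_one],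
      ← monoM_one (w := w), smul_monoM h]
    simp
  rw [mat6_mul, es, e, eg, h.toM_evalW, Matrix.smul_mul, Matrix.one_mul]

include h in
/-- The normalised subgroup lies in any group with its generators. -/
theorem msub_le {H : Subgroup (Cfsg.SU 6 F 2)}
    (h0 : ∃ g ∈ H, mat6 g = monoM w 1 ![1, 2, 0, 0, 0, 0])
    (h3 : ∃ g ∈ H, mat6 g = monoM w pc3 0) (h5 : ∃ g ∈ H, mat6 g = monoM w pc5 0) :
    Msub h ≤ H := by
  let Pm : Subgroup (Perm (Fin 6)) :=
    { carrier := {π | ∃ g ∈ H, ∃ d, mat6 g = monoM w π d}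
      one_mem' := ⟨1, one_mem H, 0, by rw [mat6_one, monoM_one]⟩
      mul_mem' := fun ⟨g, hg, d, e⟩ ⟨g', hg', d', e'⟩ =>
        ⟨g * g', mul_mem hg hg', _, by rw [mat6_mul, e, e', monoM_mul h]⟩
      inv_mem' := by
        rintro π ⟨g, hg, d, e⟩
        obtain ⟨σ, -, d', e'⟩ := (monoSub h ⊤).inv_mem ⟨π, trivial, d, e⟩
        refine ⟨g⁻¹, inv_mem hg, d', ?_⟩
        have := congrArg mat6 (mul_inv_cancel g)
        rw [mat6_mul, e, e', monoM_mul h, mat6_one, ← monoM_one (w := w)] at this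
        rwa [inv_eq_of_mul_eq_one_right (monoM_inj h this).1] }
  have hA : alternatingGroup (Fin 6) ≤ Pm :=
    alternating_le (by obtain ⟨g, hg, e⟩ := h3; exact ⟨g, hg, _, e⟩)
      (by obtain ⟨g, hg, e⟩ := h5; exact ⟨g, hg, _, e⟩)
  let D : AddSubgroup (Fin 6 → ZMod 3) :=
    { carrier := {d | ∃ g ∈ H, mat6 g = monoM w 1 d}
      zero_mem' := ⟨1, one_mem H, by rw [mat6_one, monoM_one]⟩
      add_mem' := fun ⟨g, hg, e⟩ ⟨g', hg', e'⟩ => ⟨g * g', mul_mem hg hg', by
        rw [mat6_mul, e, e', monoM_mul h]; congr 1⟩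
      neg_mem' := by
        rintro d ⟨g, hg, e⟩
        refine ⟨g ^ 2, pow_mem hg 2, ?_⟩
        rw [mat6_pow, sq, e, monoM_mul h, one_mul]
        congr 1
        funext j
        have : ∀ a : ZMod 3, a + a = -a := by decide
        exact this _ }
  have hconj : ∀ {π : Perm (Fin 6)} {d : Fin 6 → ZMod 3}, π ∈ Pm → d ∈ D → (fun j => d (π j)) ∈ D := by
    rintro π d ⟨g, hg, d0, e⟩ ⟨x, hx, ex⟩
    obtain ⟨y, ey⟩ := exists_mono h 1 (d := fun j => d (π j))
      (by rw [Equiv.sum_comp π d]; exact sum_of_mat h ex)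
    refine ⟨y, ?_, ey⟩
    have : g * y = x * g := mat6_inj (by
      rw [mat6_mul, mat6_mul, e, ey, ex, monoM_mul h, monoM_mul h, one_mul, mul_one]
      congr 1
      funext j
      exact add_comm _ _)
    rw [show y = g⁻¹ * (x * g) by rw [← this, inv_mul_cancel_left]]
    exact mul_mem (inv_mem hg) (mul_mem hx hg)
  have hbase : ∀ a : Fin 5, ∃ π : Perm (Fin 6), Perm.sign π = 1 ∧
      (fun j => (![1, 2, 0, 0, 0, 0] : Fin 6 → ZMod 3) (π j)) =
        fun j => (if j = a.castSucc then 1 else if j = 5 then 2 else 0) := by decide +kernel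
  have hD : ∀ d : Fin 6 → ZMod 3, ∑ j, d j = 0 → d ∈ D := by
    intro d hd
    have e : d = ∑ a : Fin 5, (d a.castSucc).val •
        fun j : Fin 6 => (if j = a.castSucc then (1 : ZMod 3) else if j = 5 then 2 else 0) := by
      have key : ∀ d : Dv, ∀ j : Fin 6, d.1 j = ∑ a : Fin 5, (d.1 a.castSucc).val •
          (if j = a.castSucc then (1 : ZMod 3) else if j = 5 then 2 else 0) := by decide +kernel
      funext j
      rw [Finset.sum_apply]
      exact key ⟨d, hd⟩ j
    rw [e]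
    refine sum_mem fun a _ => nsmul_mem ?_ _
    obtain ⟨π, hπ, eπ⟩ := hbase a
    rw [← eπ]
    exact hconj (hA (Perm.mem_alternatingGroup.2 hπ)) h0
  rintro g ⟨π, hπ, d, e⟩
  obtain ⟨g', hg', d', e'⟩ := hA hπ
  obtain ⟨x, hx, ex⟩ := hD (fun j => d j - d' j) (by
    rw [Finset.sum_sub_distrib, sum_of_mat h e, sum_of_mat h e', sub_zero])
  rw [show g = g' * x from mat6_inj (by
    rw [mat6_mul, e, e', ex, monoM_mul h, mul_one]; congr 1; funext j; simp)]
  exact mul_mem hg' hx

include h in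
theorem scalars_le_imageK : (scalars w : Subgroup (Cfsg.SU 6 F 2)) ≤ imageK w ι := by
  intro g hg
  obtain ⟨c, hc⟩ := mem_scalars.1 hg
  refine mem_imageK.2 ⟨1, ?_⟩
  by_cases hw : ∃ e, c = wz w e
  · obtain ⟨e, rfl⟩ := hw
    rw [hc]
    exact rel_scalar h e
  · exact absurd (exists_wz_of_scalar h hc) hw

include h hF hι in
theorem gen_table {x : ℕ} (hx : x < 10) :
    ∃ g ∈ imageK w ι, mat6 g = toM w (kget genTab6 x 0) := by
  have hg := gensB_true
  simp only [gensB, kallUpTo_iff, Nat.beq_eq] at hg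
  rcases Nat.lt_or_ge x 5 with hlt | hge
  · exact exists_gen_elt h hF hι hlt
  · obtain ⟨a, ha, ea⟩ := exists_gen_elt h hF hι (show x - 5 < 5 by omega)
    refine ⟨a⁻¹, inv_mem ha, ?_⟩
    have e : toM w (genN (x - 5)) * toM w (genN x) = 1 := by
      rw [← h.toM_mulN, ← h.toM_one, ← hg (x - 5) (by omega), Nat.sub_add_cancel hge]
    have e2 : mat6 a⁻¹ * mat6 a = 1 := by rw [← mat6_mul, inv_mul_cancel, mat6_one]
    show _ = toM w (genN x)
    calc mat6 a⁻¹ = mat6 a⁻¹ * (toM w (genN (x - 5)) * toM w (genN x)) := by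
          rw [e, Matrix.mul_one]
      _ = _ := by rw [← ea, ← Matrix.mul_assoc, e2, Matrix.one_mul]

include h in
theorem small_mats : toM w (smallN 0) = monoM w 1 ![1, 2, 0, 0, 0, 0] ∧
    toM w (smallN 1) = monoM w pc3 0 ∧ toM w (smallN 2) = monoM w pc5 0 ∧
    toM w tauN = monoM w ptau 0 ∧
    ∀ a : ZMod 3, toM w (dgN a.val) = monoM w 1 (Pi.single 0 a) :=
  ⟨toM_of_monoC h fun i j => (mono_small i j).1, toM_of_monoC h fun i j => (mono_small i j).2.1,
    toM_of_monoC h fun i j => (mono_small i j).2.2.1, toM_tau h,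
    fun a => toM_of_monoC h fun i j => (mono_small i j).2.2.2.2 a⟩

include h hF hι in
theorem msub_le_imageK : Msub h ≤ imageK w ι := by
  have hs := smallWordB_true
  simp only [smallWordB, kallUpTo_iff, Nat.beq_eq] at hs
  obtain ⟨e0, e1, e2, -⟩ := small_mats h
  have hk : ∀ k < 3, ∃ g ∈ imageK w ι, mat6 g = toM w (smallN k) := fun k hk => by
    rw [hs k hk]
    exact exists_word h (scalars_le_imageK (ι := ι) h) (fun x hx => gen_table h hF hι hx) (lt_small k hk)
  exact msub_le h (e0 ▸ hk 0 (by norm_num)) (e1 ▸ hk 1 (by norm_num)) (e2 ▸ hk 2 (by norm_num))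

include h hF hι in
/-- The extra element. -/
theorem exists_x0 : ∃ x ∈ imageK w ι, mat6 x = toM w (candN 15) := by
  have hm := memWordB_true
  simp only [memWordB, kall_iff, Nat.beq_eq] at hm
  have h15 : ((15, 0, 2, [5, 9, 3, 2, 9, 6, 9, 7]) : ℕ × ℕ × ℕ × List ℕ) ∈ memWord := by
    decide
  have e := congrArg (toM w) (hm _ h15)
  obtain ⟨x, hx, ex⟩ := exists_word (k := 2) h (scalars_le_imageK (ι := ι) h)
    (fun x hx => gen_table h hF hι hx) (lt_mem _ h15)
  rw [h.toM_mulN, h.toM_mulN, show dgN 0 = dgN (0 : ZMod 3).val from rfl, (small_mats h).2.2.2.2 0,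
    Pi.single_zero, monoM_one, Matrix.mul_one, Matrix.one_mul] at e
  exact ⟨x, hx, ex.trans e.symm⟩

include h hF hι in
/-- The image is generated by the monomial part and one element. -/
theorem imageK_le {H : Subgroup (Cfsg.SU 6 F 2)} (hM : Msub h ≤ H)
    (hx : ∃ x ∈ H, mat6 x = toM w (candN 15)) : imageK w ι ≤ H := by
  have hs : scalars w ≤ H := (scalars_le h _).trans hM
  have hsm := smallB_true
  simp only [smallB, Bool.and_eq_true, kallUpTo_iff, Nat.beq_eq] at hsm
  obtain ⟨e0, e1, e2, -⟩ := small_mats h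
  have hp3 : pc3 ∈ alternatingGroup (Fin 6) := Perm.mem_alternatingGroup.2 gens_even.1
  have hp5 : pc5 ∈ alternatingGroup (Fin 6) := Perm.mem_alternatingGroup.2 gens_even.2.1
  have h4 : ∀ k < 4, ∃ g ∈ H, mat6 g = toM w (smallN k) := by
    intro k hk
    interval_cases k
    · obtain ⟨g, eg⟩ := exists_mono h 1 (d := ![1, 2, 0, 0, 0, 0]) (by decide)
      exact ⟨g, hM ⟨1, one_mem _, _, eg⟩, eg.trans e0.symm⟩
    · obtain ⟨g, eg⟩ := exists_mono h pc3 (d := 0) (by simp)
      exact ⟨g, hM ⟨_, hp3, _, eg⟩, eg.trans e1.symm⟩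
    · obtain ⟨g, eg⟩ := exists_mono h pc5 (d := 0) (by simp)
      exact ⟨g, hM ⟨_, hp5, _, eg⟩, eg.trans e2.symm⟩
    · rw [hsm.2]; exact hx
  have h8 : ∀ x < 8, ∃ g ∈ H, mat6 g = toM w (kget smallTab x 0) := by
    intro x hx8
    rcases Nat.lt_or_ge x 4 with hlt | hge
    · exact h4 x hlt
    · obtain ⟨a, ha, ea⟩ := h4 (x - 4) (by omega)
      refine ⟨a⁻¹, inv_mem ha, ?_⟩
      have e : toM w (smallN (x - 4)) * toM w (smallN x) = 1 := by
        rw [← h.toM_mulN, ← h.toM_one, ← (hsm.1 (x - 4) (by omega)).2, Nat.sub_add_cancel hge]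
      have e2 : mat6 a⁻¹ * mat6 a = 1 := by rw [← mat6_mul, inv_mul_cancel, mat6_one]
      show _ = toM w (smallN x)
      calc mat6 a⁻¹ = mat6 a⁻¹ * (toM w (smallN (x - 4)) * toM w (smallN x)) := by
            rw [e, Matrix.mul_one]
        _ = _ := by rw [← ea, ← Matrix.mul_assoc, e2, Matrix.one_mul]
  let G : Subgroup (Cfsg.SU 4 F9 3) :=
    (pairs w ι ⊓ H.comap (MonoidHom.snd _ _)).map (MonoidHom.fst _ _)
  have hG : G = ⊤ := by
    refine GenTop.eq_top_of_gens hF hι fun k hk g hg => ?_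
    have hb := backWordB_true
    simp only [backWordB, kallUpTo_iff, Nat.beq_eq] at hb
    obtain ⟨a, ha, ea⟩ := exists_word (k := (kget backWord k (0, [])).1) h hs h8 (lt_back k hk)
    rw [← hb k hk] at ea
    refine ⟨(g, a), ⟨?_, ha⟩, rfl⟩
    show Rel w ι g (mat6 a)
    rw [ea]
    exact rel_gen h hF hι hk hg
  intro a ha
  obtain ⟨g, hg⟩ := mem_imageK.1 ha
  obtain ⟨⟨g', a'⟩, ⟨hr, ha'⟩, rfl⟩ : g ∈ G := hG ▸ Subgroup.mem_top g
  obtain ⟨e, he⟩ := rel_unique h hF hι hr hg
  obtain ⟨s, es⟩ := exists_mono h 1 (d := fun _ => e) (const_sum e)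
  rw [show a = s * a' from mat6_inj (by
    rw [mat6_mul, es, he]
    show wz w e • mat6 a' = _
    rw [show monoM w 1 (fun _ => e) = wz w e • (1 : Matrix (Fin 6) (Fin 6) F) by
      rw [← monoM_one (w := w), smul_monoM h]; simp, Matrix.smul_mul, Matrix.one_mul])]
  exact mul_mem (hs ((mem_scalars_iff h).2 ⟨e, es⟩)) ha'

include hF in
theorem card_PSU_four : Nat.card (Cfsg.PSU 4 F9 3) = 3265920 := by
  have := (Subgroup.center (Cfsg.SU 4 F9 3)).card_mul_index
  rw [U43Mult50.card_center_four hF, U43Mult50.card_SU_four_three hF] at this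
  show Nat.card (Cfsg.SU 4 F9 3 ⧸ _) = _
  rw [← Subgroup.index_eq_card]
  omega

include hF in
theorem center_PSU_four : Subgroup.center (Cfsg.PSU 4 F9 3) = ⊥ := by
  have := Unitary.isSimpleGroup_PSU (q := 3) hF (n := 4) (by norm_num) (by norm_num)
  refine (Subgroup.Normal.eq_bot_or_eq_top (inferInstance)).resolve_right fun ht => ?_
  have hp := (U43Mult50.perfect_PSU hF).1
  have : commutator (Cfsg.PSU 4 F9 3) = ⊥ := (commutator_eq_bot_iff_center_eq_top _).2 ht
  rw [this] at hp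
  exact bot_ne_top hp

include h hF hι in
theorem imageK_bar : Nonempty ((imageK w ι).map (bar w) ≃* Cfsg.PSU 4 F9 3) := by
  choose f hf using exists_rel_elt (w := w) h hF hι
  have hq : ∀ {g : Cfsg.SU 4 F9 3} {a : Cfsg.SU 6 F 2}, Rel w ι g (mat6 a) →
      bar w a = bar w (f g) := by
    intro g a ha
    obtain ⟨e, he⟩ := rel_unique h hF hι (hf g) ha
    obtain ⟨s, es⟩ := exists_mono h 1 (d := fun _ => e) (const_sum e)
    have : a = s * f g := mat6_inj (by
      rw [mat6_mul, es, he, ← one_mul (monoM w 1 fun _ => e)]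
      rw [one_mul, show monoM w 1 (fun _ => e) = wz w e • (1 : Matrix (Fin 6) (Fin 6) F) by
        rw [← monoM_one (w := w), smul_monoM h]; simp, Matrix.smul_mul, Matrix.one_mul])
    rw [this, map_mul, show bar w s = 1 from
      (QuotientGroup.eq_one_iff _).2 ((mem_scalars_iff h).2 ⟨e, es⟩), one_mul]
  let φ : Cfsg.SU 4 F9 3 →* Cfsg.SU 6 F 2 ⧸ (scalars w : Subgroup (Cfsg.SU 6 F 2)) :=
    MonoidHom.mk' (fun g => bar w (f g)) fun g g' => by
      rw [← map_mul]
      exact (hq (by rw [mat6_mul]; exact rel_mul (hf g) (hf g'))).symm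
  have hc : Subgroup.center (Cfsg.SU 4 F9 3) ≤ φ.ker := by
    intro z hz
    obtain ⟨c, hcz⟩ : ∃ c : F9, c ≠ 0 ∧ U43Mult50.mat z = c • 1 := by
      obtain ⟨c, hc'⟩ := (Unitary.mem_center_iff hF (n := 4) (by norm_num)).1 hz
      have hc : U43Mult50.mat z = c • 1 := Matrix.ext_of_mulVec_single fun j =>
        (hc' (Pi.single j 1)).trans (by rw [Matrix.smul_mulVec, Matrix.one_mulVec])
      refine ⟨c, ?_, hc⟩
      rintro rfl
      have := z.1.2
      rw [show z.1.1 = U43Mult50.mat z from rfl, show U43Mult50.mat z = 0 by rw [hc, zero_smul],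
        Matrix.det_zero] at this
      exact zero_ne_one this
    show bar w (f z) = 1
    rw [← hq (a := 1) ⟨1, ⟨fun _ => rfl, fun _ _ => rfl, fun a => ⟨c * c,
      mul_ne_zero hcz.1 hcz.1, by
        rw [hcz.2, Matrix.transpose_smul, Matrix.transpose_one, Matrix.smul_mul, Matrix.one_mul,
          Matrix.mul_smul, Matrix.mul_one, smul_smul]; rfl⟩⟩,
      fun a => by rw [mat6_one]; exact Matrix.one_mulVec _⟩, map_one]
  have hrange : φ.range = (imageK w ι).map (bar w) := by
    ext x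
    constructor
    · rintro ⟨g, rfl⟩; exact ⟨f g, mem_imageK.2 ⟨g, hf g⟩, rfl⟩
    · rintro ⟨a, ha, rfl⟩
      obtain ⟨g, hg⟩ := mem_imageK.1 ha
      exact ⟨g, (hq hg).symm⟩
  let ψ := QuotientGroup.lift _ φ hc
  have hψr : ψ.range = (imageK w ι).map (bar w) := by
    rw [← hrange]
    ext x
    constructor
    · rintro ⟨q, rfl⟩
      obtain ⟨g, rfl⟩ := QuotientGroup.mk_surjective q
      exact ⟨g, rfl⟩
    · rintro ⟨g, rfl⟩
      exact ⟨QuotientGroup.mk g, rfl⟩
  have := Unitary.isSimpleGroup_PSU (q := 3) hF (n := 4) (by norm_num) (by norm_num)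
  have hinj : Function.Injective ψ := by
    rw [← MonoidHom.ker_eq_bot_iff]
    refine (Subgroup.Normal.eq_bot_or_eq_top inferInstance).resolve_right fun ht => ?_
    have hb : (imageK w ι).map (bar w) = ⊥ := by
      rw [← hψr, eq_bot_iff]
      rintro _ ⟨x, rfl⟩
      exact Subgroup.mem_bot.2 ((MonoidHom.mem_ker).1 (ht ▸ Subgroup.mem_top x))
    obtain ⟨g, eg⟩ := exists_mono h pc3 (d := 0) (by simp)
    have hg : g ∈ imageK w ι := msub_le_imageK h hF hι
      ⟨pc3, Perm.mem_alternatingGroup.2 gens_even.1, _, eg⟩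
    have h1 : bar w g ∈ (imageK w ι).map (bar w) := ⟨g, hg, rfl⟩
    rw [hb, Subgroup.mem_bot] at h1
    obtain ⟨e, he⟩ := (mem_scalars_iff h).1 ((QuotientGroup.eq_one_iff _).1 h1)
    rw [eg] at he
    exact absurd (monoM_inj h he).1 (by decide)
  exact ⟨((MonoidHom.ofInjective hinj).trans (MulEquiv.subgroupCongr hψr)).symm⟩

include h hF in
/-- A group over `PSU_4(3)` with scalars as kernel. -/
theorem triple_of_bar {K : Subgroup (Cfsg.SU 6 F 2)} (hs : scalars w ≤ K)
    (e : K.map (bar w) ≃* Cfsg.PSU 4 F9 3) : Triple F9 K := by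
  let f := (bar w).subgroupMap K
  have hsurj : Function.Surjective f := (bar w).subgroupMap_surjective K
  have hker : f.ker = (scalars w).subgroupOf K := by
    ext x
    rw [MonoidHom.mem_ker, Subgroup.mem_subgroupOf, ← QuotientGroup.eq_one_iff]
    exact Subtype.ext_iff
  have hc : Subgroup.center K = f.ker := by
    apply le_antisymm
    · intro z hz
      have hzc : e (f z) ∈ Subgroup.center (Cfsg.PSU 4 F9 3) := by
        refine Subgroup.mem_center_iff.2 fun y => ?_
        obtain ⟨x, hx⟩ := hsurj (e.symm y)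
        rw [← e.apply_symm_apply y, ← hx, ← map_mul, ← map_mul, ← map_mul, ← map_mul,
          Subgroup.mem_center_iff.1 hz x]
      rw [center_PSU_four hF, Subgroup.mem_bot] at hzc
      exact MonoidHom.mem_ker.2 (e.injective (hzc.trans (map_one e).symm))
    · rw [hker]
      intro z hz
      exact Subgroup.mem_center_iff.2 fun x => Subtype.ext ((Subgroup.mem_subgroupOf.1 hz x.1).1.symm)
  refine ⟨?_, ⟨(QuotientGroup.quotientMulEquivOfEq hc).trans
    ((QuotientGroup.quotientKerEquivOfSurjective f hsurj).trans e)⟩⟩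
  rw [hc, hker, Nat.card_congr (Subgroup.subgroupOfEquivOfLe hs).toEquiv, card_scalars h]

include hF in
theorem card_triple {K : Subgroup (Cfsg.SU 6 F 2)} (hK : Triple F9 K) : Nat.card K = 9797760 := by
  obtain ⟨h3, ⟨e⟩⟩ := hK
  rw [Subgroup.card_eq_card_quotient_mul_card_subgroup (Subgroup.center K), h3,
    Nat.card_congr e.toEquiv, card_PSU_four hF]

theorem triple_congr {K K' : Subgroup (Cfsg.SU 6 F 2)} (e : K ≃* K') (hK : Triple F9 K) :
    Triple F9 K' := by
  have hc : (Subgroup.center K).map e.toMonoidHom = Subgroup.center K' := by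
    ext y
    rw [Subgroup.mem_map_equiv, Subgroup.mem_center_iff, Subgroup.mem_center_iff]
    constructor
    · intro hy g
      have := congrArg e (hy (e.symm g))
      simpa [map_mul] using this
    · intro hy g
      apply e.injective
      simpa [map_mul] using hy (e g)
  obtain ⟨h3, ⟨e'⟩⟩ := hK
  refine ⟨?_, ⟨(QuotientGroup.congr _ _ e hc).symm.trans e'⟩⟩
  rw [← hc, Nat.card_congr (Subgroup.equivMapOfInjective _ _ e.injective).toEquiv.symm, h3]

theorem triple_map {K : Subgroup (Cfsg.SU 6 F 2)} (φ : Cfsg.SU 6 F 2 →* Cfsg.SU 6 F 2)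
    (hφ : Function.Injective φ) (hK : Triple F9 K) : Triple F9 (K.map φ) :=
  triple_congr (Subgroup.equivMapOfInjective K φ hφ) hK

include h in
theorem card_Psub : Nat.card (Psub h) = 3 ^ 7 := by
  rw [card_monoSub h, card_nine h]; rfl

include h in
theorem le_Psub_of_pGroup {S : Subgroup (Cfsg.SU 6 F 2)} (hP : Psub h ≤ S) (hS : IsPGroup 3 S) :
    S = Psub h := by
  refine (Subgroup.eq_of_le_of_card_ge hP ?_).symm
  obtain ⟨n, hn⟩ := IsPGroup.iff_card.1 hS
  have hd := S.card_subgroup_dvd_card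
  rw [hn, SuMult50.card_SU_six_two h.card] at hd
  rw [hn, card_Psub h]
  refine Nat.pow_le_pow_right (by norm_num) ?_
  by_contra hlt
  exact absurd ((Nat.pow_dvd_pow 3 (show 8 ≤ n by omega)).trans hd) (by norm_num)

include h hF in
/-- The centre of a triple cover over the Sylow subgroup consists of scalars. -/
theorem bar_of_triple {K : Subgroup (Cfsg.SU 6 F 2)} (hK : Triple F9 K) (hP : Psub h ≤ K) :
    scalars w ≤ K ∧ Nonempty (K.map (bar w) ≃* Cfsg.PSU 4 F9 3) := by
  have hle : ∀ z ∈ Subgroup.center K, (z : Cfsg.SU 6 F 2) ∈ scalars w := by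
    intro z hz
    have hcomm : ∀ g ∈ K, g * (z : Cfsg.SU 6 F 2) = z * g := fun g hg =>
      congrArg Subtype.val (Subgroup.mem_center_iff.1 hz ⟨g, hg⟩)
    have hz3 : (z : Cfsg.SU 6 F 2) ^ 3 = 1 := by
      have := pow_card_eq_one' (x := (⟨z, hz⟩ : Subgroup.center K))
      rw [hK.1] at this
      exact congrArg (fun y : Subgroup.center K => (y : Cfsg.SU 6 F 2)) this
    have hzP : (z : Cfsg.SU 6 F 2) ∈ Psub h := by
      have hp1 : IsPGroup 3 (Psub h) := IsPGroup.of_card (card_Psub h)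
      have hp2 : IsPGroup 3 (Subgroup.zpowers (z : Cfsg.SU 6 F 2)) := by
        rintro ⟨y, hy⟩
        obtain ⟨i, rfl⟩ := Subgroup.mem_zpowers_iff.1 hy
        refine ⟨1, Subtype.ext ?_⟩
        show ((z : Cfsg.SU 6 F 2) ^ i) ^ (3 ^ 1) = 1
        rw [← zpow_natCast, ← _root_.zpow_mul, mul_comm, _root_.zpow_mul, zpow_natCast, pow_one,
          hz3, _root_.one_zpow]
      have hS := le_Psub_of_pGroup h le_sup_left (IsPGroup.to_sup_of_normal_left' hp1 hp2 fun y hy => by
        obtain ⟨i, rfl⟩ := Subgroup.mem_zpowers_iff.1 hy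
        refine (Subgroup.centralizer_le_normalizer _) (Subgroup.mem_centralizer_iff.2 fun g hg => ?_)
        exact (Commute.zpow_right (hcomm g (hP hg)) i).eq)
      exact hS ▸ (le_sup_right : _ ≤ Psub h ⊔ _) (Subgroup.mem_zpowers _)
    obtain ⟨a, e, he⟩ := center_P h hzP fun b hb =>
      (show Commute (z : Cfsg.SU 6 F 2) b from (hcomm b (hP hb)).symm).map _
    by_cases ha : a = 0
    · subst ha
      exact (mem_scalars_iff h).2 ⟨e, he.trans (by congr 1; funext j; simp)⟩
    exfalso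
    choose k hk c hc m hm hg using fun g : K => exists_cand h ha (g := (g : Cfsg.SU 6 F 2)) (by
      rw [← he, ← mat6_mul, ← mat6_mul, hcomm g g.2])
    let Φ : K → Fin 32 × Msub h := fun g => (⟨k g, hk g⟩, ⟨m g, hm g⟩)
    have hΦ : Function.Injective Φ := by
      intro g g' e
      simp only [Φ, Prod.mk.injEq, Fin.mk.injEq, Subtype.mk.injEq] at e
      refine Subtype.ext ?_
      rw [hg g, hg g', e.2, show c g = c g' from mat6_inj (by rw [hc g, hc g', e.1])]
    have := Nat.card_le_card_of_injective Φ hΦ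
    rw [card_triple hF hK, Nat.card_prod, card_monoSub h, nat_card_alternatingGroup, Nat.card_fin, Nat.card_fin] at this
    norm_num [Nat.factorial] at this
  have hmap : (Subgroup.center K).map K.subtype = scalars w := by
    refine Subgroup.eq_of_le_of_card_ge ?_ ?_
    · rintro _ ⟨z, hz, rfl⟩; exact hle z hz
    · rw [card_scalars h, Nat.card_congr (Subgroup.equivMapOfInjective _ _
        K.subtype_injective).toEquiv.symm, hK.1]
  have hs : scalars w ≤ K := hmap ▸ Subgroup.map_subtype_le _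
  refine ⟨hs, ?_⟩
  obtain ⟨e⟩ := hK.2
  let f := (bar w).subgroupMap K
  have hker : Subgroup.center K = f.ker := by
    apply Subgroup.map_injective K.subtype_injective
    rw [hmap]
    ext x
    constructor
    · intro hx
      exact ⟨⟨x, hs hx⟩, MonoidHom.mem_ker.2 (Subtype.ext ((QuotientGroup.eq_one_iff x).2 hx)), rfl⟩
    · rintro ⟨y, hy, rfl⟩
      exact (QuotientGroup.eq_one_iff _).1 (congrArg Subtype.val (MonoidHom.mem_ker.1 hy))
  exact ⟨((QuotientGroup.quotientMulEquivOfEq hker).trans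
    (QuotientGroup.quotientKerEquivOfSurjective f ((bar w).subgroupMap_surjective K))).symm.trans e⟩

end Cfsg.Agent.SU62Sub75
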