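import Cfsg.Agent.SU62Sub75.Check
import Cfsg.Agent.Lib.Unitary.Basic

/-!
Elements of `SU_6(2)` from coded matrices (helper75).
-/

set_option autoImplicit false
set_option linter.unusedSectionVars false

namespace Cfsg.Agent.SU62Sub75

open Matrix Cfsg.Agent.ChevCore Cfsg.Agent.CosetEnum

variable {F : Type} [Field F]

/-- The matrix of an element. -/
def mat6 (g : Cfsg.SU 6 F 2) : Matrix (Fin 6) (Fin 6) F :=
  (g : Matrix.SpecialLinearGroup (Fin 6) F).1

theorem mat6_mul (g g' : Cfsg.SU 6 F 2) : mat6 (g * g') = mat6 g * mat6 g' := rfl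

theorem mat6_one : mat6 (1 : Cfsg.SU 6 F 2) = 1 := rfl

theorem mat6_inj {g g' : Cfsg.SU 6 F 2} (e : mat6 g = mat6 g') : g = g' :=
  Subtype.ext (Subtype.ext e)

theorem mat6_det (g : Cfsg.SU 6 F 2) : (mat6 g).det = 1 := g.1.2

theorem mat6_pow (g : Cfsg.SU 6 F 2) (n : ℕ) : mat6 (g ^ n) = mat6 g ^ n := by
  induction n with
  | zero => exact mat6_one.trans (pow_zero _).symm
  | succ n ih => rw [pow_succ, mat6_mul, ih, pow_succ]

variable [Fintype F] {w : F}

namespace IsF4

variable (h : IsF4 w)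
include h

theorem herm_eq {n : ℕ} (M : Matrix (Fin n) (Fin n) F) (i j : Fin n) :
    (adjM M * M) i j = Unitary.herm 2 (fun k => M k j) fun k => M k i := by
  rw [Matrix.mul_apply]
  exact Finset.sum_congr rfl fun k _ => mul_comm _ _

theorem preserves_iff {n : ℕ} (M : Matrix (Fin n) (Fin n) F) :
    (∀ u v, hermForm n F 2 (M *ᵥ u) (M *ᵥ v) = hermForm n F 2 u v) ↔ adjM M * M = 1 := by
  constructor
  · intro hM
    ext i j
    rw [h.herm_eq]
    have := hM (Pi.single j 1) (Pi.single i 1)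
    rw [Matrix.mulVec_single_one, Matrix.mulVec_single_one] at this
    refine this.trans ?_
    rw [Cfsg.hermForm, Matrix.one_apply]
    simp [Pi.single_apply, eq_comm]
  · intro hM u v
    have e : ∀ a b : Fin n → F, hermForm n F 2 a b = a ⬝ᵥ (fun i => b i ^ 2) := fun a b => rfl
    have hv : (fun i => (M *ᵥ v) i ^ 2) = cjM M *ᵥ fun i => v i ^ 2 := by
      funext i
      simp only [Matrix.mulVec, dotProduct, h.cj_sum, mul_pow]
      rfl
    have hT : (Mᵀ * cjM M) = 1 := by
      have := congrArg Matrix.transpose hM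
      rwa [Matrix.transpose_mul, adjM, Matrix.transpose_transpose, Matrix.transpose_one] at this
    rw [e, e, hv, Matrix.dotProduct_mulVec, ← Matrix.mulVec_transpose, Matrix.mulVec_mulVec,
      show (cjM M)ᵀ * M = adjM M * M from rfl, hM, Matrix.one_mulVec]

theorem adj_mat6 (g : Cfsg.SU 6 F 2) : adjM (mat6 g) * mat6 g = 1 :=
  (h.preserves_iff _).1 g.2

theorem det_cube {M : Matrix (Fin 6) (Fin 6) F} (hM : adjM M * M = 1) : M.det ^ 3 = 1 := by
  refine h.pow_three _ fun e => ?_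
  have := congrArg Matrix.det hM
  rw [Matrix.det_mul, e, mul_zero, Matrix.det_one] at this
  exact zero_ne_one this

theorem exists_elt {M : Matrix (Fin 6) (Fin 6) F} (hd : M.det = 1) (hM : adjM M * M = 1) :
    ∃ g : Cfsg.SU 6 F 2, mat6 g = M :=
  ⟨⟨⟨M, hd⟩, (h.preserves_iff M).2 hM⟩, rfl⟩

theorem unit_of_code {A : ℕ} (hA : unitN A = true) : adjM (toM w A) * toM w A = 1 := by
  rw [unitN, Nat.beq_eq] at hA
  rw [← h.toM_adjN, ← h.toM_mulN, hA, h.toM_one]

theorem det_of_pow {A n : ℕ} (hA : unitN A = true) (hn : Nat.Coprime n 3)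
    (hp : powN A n = scN 0) : (toM w A).det = 1 := by
  have h1 : (toM w A).det ^ n = 1 := by
    rw [← Matrix.det_pow, ← h.toM_powN, hp, h.toM_one, Matrix.det_one]
  have h3 := h.det_cube (h.unit_of_code hA)
  have := pow_gcd_eq_one.2 ⟨h1, h3⟩
  rwa [hn, pow_one] at this

theorem mat6_mul_code {g g' : Cfsg.SU 6 F 2} {A B : ℕ} (hg : mat6 g = toM w A)
    (hg' : mat6 g' = toM w B) : mat6 (g * g') = toM w (mulN A B) := by
  rw [mat6_mul, hg, hg', h.toM_mulN]

/-- An element of `SU_6(2)` of order eleven spelled in a table. -/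
theorem eleven_dvd {H : Subgroup (Cfsg.SU 6 F 2)} {tab ws : List ℕ} {n : ℕ}
    (hn : tab.length = n) (htab : ∀ x < n, ∃ g ∈ H, mat6 g = toM w (kget tab x 0))
    (hws : kall ws (fun x => Nat.blt x n) = true) (he : elevenN (evalW tab 0 ws) = true) :
    11 ∣ Nat.card H := by
  rw [kall_iff] at hws
  have hprod : ∀ l : List ℕ, (∀ x ∈ l, x < n) →
      ∃ g ∈ H, mat6 g = (l.map fun x => toM w (kget tab x 0)).prod := by
    intro l
    induction l with
    | nil => exact fun _ => ⟨1, one_mem H, by simp [mat6_one]⟩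
    | cons x l ih =>
      intro hl
      obtain ⟨g, hg, eg⟩ := htab x (hl x List.mem_cons_self)
      obtain ⟨g', hg', eg'⟩ := ih fun y hy => hl y (List.mem_cons_of_mem _ hy)
      exact ⟨g * g', mul_mem hg hg', by rw [mat6_mul, eg, eg', List.map_cons, List.prod_cons]⟩
  obtain ⟨g, hg, eg⟩ := hprod ws fun x hx => Nat.blt_eq ▸ hws x hx
  have eg' : mat6 g = toM w (evalW tab 0 ws) := by
    rw [eg, h.toM_evalW, pow_zero, one_smul]
  simp only [elevenN, forceNat_eq, Bool.and_eq_true, Bool.not_eq_true', ← Bool.not_eq_true,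
    Nat.beq_eq, kanyUpTo_iff] at he
  obtain ⟨⟨i, hi, j, hj, hij⟩, hpow⟩ := he
  have hne : (⟨g, hg⟩ : H) ≠ 1 := by
    intro e
    have e1 : g = 1 := congrArg Subtype.val e
    exact hij (h.toM_inj (by rw [← eg', e1, mat6_one, h.toM_one]) hi hj)
  have h11 : (⟨g, hg⟩ : H) ^ 11 = 1 := by
    refine Subtype.ext (mat6_inj ?_)
    show mat6 (g ^ 11) = _
    rw [mat6_pow, eg', ← h.toM_powN, hpow, h.toM_one]
    rfl
  have := Fact.mk (show (11 : ℕ).Prime by norm_num)
  rw [← orderOf_eq_prime h11 hne]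
  exact orderOf_dvd_natCard _

end IsF4

end Cfsg.Agent.SU62Sub75
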